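import Cfsg.Agent.Small.BaerSuzuki
import Cfsg.Agent.Small.StronglyEmbedded
import Cfsg.Agent.ExtremelyClosed.Reduction

/-!
# Groups without a prime that is both inverted and centralised by involutions

An odd prime is *inverted* if some involution inverts an element of that order and *centralised* if
some involution commutes with one.  `DualFree` says that no odd prime is both.
-/

set_option autoImplicit false
set_option linter.style.haveILetI false
set_option linter.unusedSectionVars false
set_option linter.dupNamespace false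

namespace CfsgLib.DualFree

open CfsgLib.Small

variable {G : Type*} [Group G]

/-- An involution inverts an element of order `r`. -/
def Inverted (G : Type*) [Group G] (r : ℕ) : Prop :=
  ∃ x t : G, orderOf x = r ∧ orderOf t = 2 ∧ t * x * t⁻¹ = x⁻¹

/-- An involution commutes with an element of order `r`. -/
def Centralised (G : Type*) [Group G] (r : ℕ) : Prop :=
  ∃ x t : G, orderOf x = r ∧ orderOf t = 2 ∧ Commute t x

/-- No odd prime is both inverted and centralised. -/
def DualFree (G : Type*) [Group G] : Prop :=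
  ∀ r : ℕ, r.Prime → r ≠ 2 → Inverted G r → ¬ Centralised G r

theorem inverted_of_dvd [Finite G] {x t : G} (ht : orderOf t = 2) (hx : t * x * t⁻¹ = x⁻¹)
    {r : ℕ} (hr : r ∣ orderOf x) : Inverted G r :=
  ⟨x ^ (orderOf x / r), t, orderOf_pow_orderOf_div (orderOf_pos x).ne' hr, ht, invol_conj_pow hx _⟩

theorem centralised_of_dvd [Finite G] {x t : G} (ht : orderOf t = 2) (hx : Commute t x)
    {r : ℕ} (hr : r ∣ orderOf x) : Centralised G r :=
  ⟨x ^ (orderOf x / r), t, orderOf_pow_orderOf_div (orderOf_pos x).ne' hr, ht, hx.pow_right _⟩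

theorem DualFree.coprime [Finite G] (h : DualFree G) {x t y s : G} (ht : orderOf t = 2)
    (hx : t * x * t⁻¹ = x⁻¹) (hox : Odd (orderOf x)) (hs : orderOf s = 2) (hy : Commute s y) :
    (orderOf x).Coprime (orderOf y) := by
  refine Nat.coprime_of_dvd fun r hr h1 h2 => h r hr ?_ (inverted_of_dvd ht hx h1)
    (centralised_of_dvd hs hy h2)
  rintro rfl
  exact hox.not_two_dvd_nat h1

/-- An element of odd order which is inverted and centralised by involutions is trivial. -/
theorem DualFree.eq_one [Finite G] (h : DualFree G) {x t s : G} (ht : orderOf t = 2)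
    (hx : t * x * t⁻¹ = x⁻¹) (hox : Odd (orderOf x)) (hs : orderOf s = 2) (hy : Commute s x) :
    x = 1 :=
  orderOf_eq_one_iff.1 ((Nat.coprime_self _).1 (h.coprime ht hx hox hs hy))

theorem DualFree.of_injective (h : DualFree G) {H : Type*} [Group H] (f : H →* G)
    (hf : Function.Injective f) : DualFree H := by
  rintro r hr hr2 ⟨x, t, hx, ht, e⟩ ⟨y, s, hy, hs, c⟩
  refine h r hr hr2 ⟨f x, f t, ?_, ?_, ?_⟩ ⟨f y, f s, ?_, ?_, c.map f⟩
  · rw [orderOf_injective f hf, hx]
  · rw [orderOf_injective f hf, ht]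
  · rw [← map_inv, ← map_mul, ← map_mul, e, map_inv]
  · rw [orderOf_injective f hf, hy]
  · rw [orderOf_injective f hf, hs]

theorem DualFree.subgroup (h : DualFree G) (H : Subgroup G) : DualFree H :=
  h.of_injective H.subtype H.subtype_injective

theorem Inverted.map {H : Type*} [Group H] {r : ℕ} (h : Inverted H r) (f : H →* G)
    (hf : Function.Injective f) : Inverted G r := by
  obtain ⟨x, t, hx, ht, e⟩ := h
  exact ⟨f x, f t, by rw [orderOf_injective f hf, hx], by rw [orderOf_injective f hf, ht],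
    by rw [← map_inv, ← map_mul, ← map_mul, e, map_inv]⟩

/-- An involutive map of a finite type of odd cardinality has a fixed point. -/
theorem exists_fixed_of_involutive {α : Type*} [Finite α] (hα : Odd (Nat.card α)) {f : α → α}
    (hf : Function.Involutive f) : ∃ a, f a = a := by
  classical
  haveI := Fintype.ofFinite α
  haveI : Fact (Nat.Prime 2) := ⟨Nat.prime_two⟩
  refine Equiv.Perm.exists_fixed_point_of_prime (n := 1)
    (by rw [← Nat.card_eq_fintype_card]; exact hα.not_two_dvd_nat) (σ := hf.toPerm) ?_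
  ext a
  simp [pow_two, hf a]

section Quotient

variable [Finite G] {N : Subgroup G} [N.Normal]

/-- An involution modulo a normal subgroup of odd order lifts to an involution. -/
theorem exists_invol_lift (hN : Odd (Nat.card N)) {q : G ⧸ N} (hq : orderOf q = 2) :
    ∃ t : G, orderOf t = 2 ∧ (t : G ⧸ N) = q := by
  obtain ⟨g, rfl⟩ := QuotientGroup.mk_surjective q
  have h1 : g ^ 2 ∈ N := by
    rw [← QuotientGroup.eq_one_iff, QuotientGroup.mk_pow, ← hq, pow_orderOf_eq_one]
  have h2 : (g ^ Nat.card N) ^ 2 = 1 := by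
    rw [← pow_mul, mul_comm, pow_mul]
    exact congrArg Subtype.val (pow_card_eq_one' (x := (⟨g ^ 2, h1⟩ : N)))
  have h3 : ((g ^ Nat.card N : G) : G ⧸ N) = (g : G ⧸ N) := by
    obtain ⟨k, hk⟩ := hN
    rw [QuotientGroup.mk_pow, hk, pow_succ, pow_mul, ← hq, pow_orderOf_eq_one, one_pow, one_mul]
  refine ⟨g ^ Nat.card N, orderOf_eq_prime h2 fun e => ?_, h3⟩
  rw [e, QuotientGroup.mk_one] at h3
  rw [← h3, orderOf_one] at hq
  omega

theorem inverted_of_quotient (hN : Odd (Nat.card N)) {r : ℕ} (hr : r.Prime) (hr2 : r ≠ 2)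
    (h : Inverted (G ⧸ N) r) : Inverted G r := by
  obtain ⟨x', t', hx, ht, e⟩ := h
  obtain ⟨t, hto, rfl⟩ := exists_invol_lift hN ht
  obtain ⟨x, rfl⟩ := QuotientGroup.mk_surjective x'
  refine inverted_of_dvd hto (x := x⁻¹ * (t * x * t⁻¹)) ?_ ?_
  · rw [inv_eq_self_of_orderOf_two hto]
    calc t * (x⁻¹ * (t * x * t)) * t = t * x⁻¹ * t * x * (t * t) := by group
      _ = t * x⁻¹ * t * x := by rw [mul_self_of_orderOf_two hto, mul_one]
      _ = (x⁻¹ * (t * x * t))⁻¹ := by
        simp only [mul_inv_rev, inv_inv, inv_eq_self_of_orderOf_two hto]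
        group
  · have h1 : orderOf ((x⁻¹ * (t * x * t⁻¹) : G) : G ⧸ N) = r := by
      have h2 : ((x⁻¹ * (t * x * t⁻¹) : G) : G ⧸ N) = ((x : G ⧸ N) ^ 2)⁻¹ := by
        simp only [QuotientGroup.mk_mul, QuotientGroup.mk_inv]
        rw [e, sq, mul_inv_rev]
      rw [h2, orderOf_inv, Nat.Coprime.orderOf_pow, hx]
      rw [hx]
      exact (Nat.coprime_primes hr Nat.prime_two).2 hr2
    exact h1 ▸ orderOf_map_dvd (QuotientGroup.mk' N) _

theorem centralised_of_quotient (hN : Odd (Nat.card N)) {r : ℕ}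
    (h : Centralised (G ⧸ N) r) : Centralised G r := by
  obtain ⟨x', t', hx, ht, e⟩ := h
  obtain ⟨t, hto, rfl⟩ := exists_invol_lift hN ht
  obtain ⟨x, rfl⟩ := QuotientGroup.mk_surjective x'
  let F := {z : G // (z : G ⧸ N) = (x : G ⧸ N)}
  have hF : ∀ z : G, (z : G ⧸ N) = (x : G ⧸ N) → ((t * z * t⁻¹ : G) : G ⧸ N) = (x : G ⧸ N) := by
    intro z hz
    rw [QuotientGroup.mk_mul, QuotientGroup.mk_mul, hz, e.eq, QuotientGroup.mk_inv,
      mul_inv_cancel_right]
  have hcard : Odd (Nat.card F) := by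
    let e : N ≃ F :=
      { toFun := fun n => ⟨x * n, QuotientGroup.mk_mul_of_mem x n.2⟩
        invFun := fun z => ⟨x⁻¹ * z.1, QuotientGroup.eq.1 z.2.symm⟩
        left_inv := fun n => by simp
        right_inv := fun z => by simp }
    rwa [← Nat.card_congr e]
  obtain ⟨⟨z, hz⟩, hfix⟩ := exists_fixed_of_involutive hcard
    (f := fun z : F => ⟨t * z.1 * t⁻¹, hF z.1 z.2⟩) (fun z => Subtype.ext (by
      show t * (t * z.1 * t⁻¹) * t⁻¹ = z.1
      rw [inv_eq_self_of_orderOf_two hto]
      calc t * (t * z.1 * t) * t = (t * t) * z.1 * (t * t) := by group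
        _ = z.1 := by rw [mul_self_of_orderOf_two hto, one_mul, mul_one]))
  have hc : t * z * t⁻¹ = z := congrArg Subtype.val hfix
  refine centralised_of_dvd hto (x := z) (mul_inv_eq_iff_eq_mul.1 hc) ?_
  rw [← hx, ← hz]
  exact orderOf_map_dvd (QuotientGroup.mk' N) z

theorem DualFree.quotient (h : DualFree G) (hN : Odd (Nat.card N)) : DualFree (G ⧸ N) :=
  fun r hr hr2 hi hc => h r hr hr2 (inverted_of_quotient hN hr hr2 hi)
    (centralised_of_quotient hN hc)

end Quotient

/-- If no prime divisor of the order of `P` is inverted, an involution normalising `P` centralises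
it. -/
theorem commute_of_not_inverted [Finite G] {P : Subgroup G}
    (hP : ∀ r : ℕ, r.Prime → r ∣ Nat.card P → ¬ Inverted G r) {t : G} (ht : orderOf t = 2)
    (hnorm : ∀ x ∈ P, t * x * t⁻¹ ∈ P) {x : G} (hx : x ∈ P) : Commute t x := by
  have hy : t * (x⁻¹ * (t * x * t⁻¹)) * t⁻¹ = (x⁻¹ * (t * x * t⁻¹))⁻¹ := by
    rw [inv_eq_self_of_orderOf_two ht]
    calc t * (x⁻¹ * (t * x * t)) * t = t * x⁻¹ * t * x * (t * t) := by group
      _ = t * x⁻¹ * t * x := by rw [mul_self_of_orderOf_two ht, mul_one]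
      _ = (x⁻¹ * (t * x * t))⁻¹ := by
        simp only [mul_inv_rev, inv_inv, inv_eq_self_of_orderOf_two ht]
        group
  have hmem : x⁻¹ * (t * x * t⁻¹) ∈ P := mul_mem (inv_mem hx) (hnorm x hx)
  have h1 : x⁻¹ * (t * x * t⁻¹) = 1 := by
    by_contra hne
    obtain ⟨r, hr, hd⟩ := Nat.exists_prime_and_dvd (fun h1 => hne (orderOf_eq_one_iff.1 h1))
    exact hP r hr (hd.trans (Subgroup.orderOf_dvd_natCard _ hmem)) (inverted_of_dvd ht hy hd)
  rw [inv_mul_eq_one] at h1
  exact (mul_inv_eq_iff_eq_mul.1 h1.symm)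

/-- An involution normalising a group of odd order normalises one of its Sylow subgroups. -/
theorem exists_invariant_sylow [Finite G] {D : Subgroup G} (hD : Odd (Nat.card D)) {t : G}
    (ht : orderOf t = 2) (hnorm : ∀ x ∈ D, t * x * t⁻¹ ∈ D) (p : ℕ) [Fact p.Prime] :
    ∃ P : Sylow p D, ∀ x : D, x ∈ P → (⟨t * x * t⁻¹, hnorm x x.2⟩ : D) ∈ P := by
  have htt := mul_self_of_orderOf_two ht
  let σ : D ≃* D :=
    { toFun := fun x => ⟨t * x * t⁻¹, hnorm x x.2⟩
      invFun := fun x => ⟨t * x * t⁻¹, hnorm x x.2⟩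
      left_inv := fun x => Subtype.ext (by
        show t * (t * (x : G) * t⁻¹) * t⁻¹ = x
        rw [inv_eq_self_of_orderOf_two ht]
        calc t * (t * (x : G) * t) * t = (t * t) * x * (t * t) := by group
          _ = x := by rw [htt, one_mul, mul_one])
      right_inv := fun x => Subtype.ext (by
        show t * (t * (x : G) * t⁻¹) * t⁻¹ = x
        rw [inv_eq_self_of_orderOf_two ht]
        calc t * (t * (x : G) * t) * t = (t * t) * x * (t * t) := by group
          _ = x := by rw [htt, one_mul, mul_one])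
      map_mul' := fun x y => Subtype.ext (by
        show t * ((x : G) * y) * t⁻¹ = t * (x : G) * t⁻¹ * (t * (y : G) * t⁻¹)
        group) }
  obtain ⟨P₀⟩ : Nonempty (Sylow p D) := Sylow.nonempty
  have hodd : Odd (Nat.card (Sylow p D)) :=
    hD.of_dvd_nat ((P₀.card_dvd_index).trans (P₀ : Subgroup D).index_dvd_card)
  have h2 : σ * σ = (1 : MulAut D) := MulEquiv.ext fun x => σ.left_inv x
  obtain ⟨P, hP⟩ := exists_fixed_of_involutive hodd (f := fun P : Sylow p D => (σ : MulAut D) • P)
    (fun P => by show (σ : MulAut D) • (σ : MulAut D) • P = P; rw [smul_smul, h2, one_smul])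
  refine ⟨P, fun x hx => ?_⟩
  have : σ x ∈ ((σ : MulAut D) • P : Sylow p D) :=
    Subgroup.smul_mem_pointwise_smul x σ (P : Subgroup D) hx
  rwa [hP] at this

section TwoCore

variable [Finite G]

theorem isPGroup_closure_pair {s t : G} (hs : orderOf s = 2) (ht : orderOf t = 2)
    (h : ∀ r : ℕ, r.Prime → r ≠ 2 → ¬ Inverted G r) :
    IsPGroup 2 (Subgroup.closure ({s, t} : Set G)) := by
  haveI : Fact (Nat.Prime 2) := ⟨Nat.prime_two⟩
  by_cases hst : s = t
  · subst hst
    rw [Set.pair_eq_singleton, ← Subgroup.zpowers_eq_closure]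
    exact IsPGroup.of_card (n := 1) (by rw [Nat.card_zpowers, hs, pow_one])
  · obtain ⟨k, m, hm, hk⟩ := Nat.exists_eq_two_pow_mul_odd (orderOf_pos (s * t)).ne'
    have hm1 : m = 1 := by
      by_contra hm1
      obtain ⟨r, hr, hd⟩ := Nat.exists_prime_and_dvd hm1
      exact h r hr (fun e => hm.not_two_dvd_nat (e ▸ hd))
        (inverted_of_dvd hs (invol_conj_mul hs ht) (hk ▸ hd.mul_left _))
    refine IsPGroup.of_card (n := k + 1) ?_
    rw [card_closure_pair_invol hs ht hst, hk, hm1, mul_one, pow_succ']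

/-- Without inverted odd primes every involution lies in a normal 2-subgroup. -/
theorem exists_normal_two {t : G} (ht : orderOf t = 2)
    (h : ∀ r : ℕ, r.Prime → r ≠ 2 → ¬ Inverted G r) :
    ∃ N : Subgroup G, N.Normal ∧ IsPGroup 2 N ∧ t ∈ N := by
  haveI : Fact (Nat.Prime 2) := ⟨Nat.prime_two⟩
  exact baerSuzuki_elem t fun g => isPGroup_closure_pair ht (by rw [orderOf_conj_eq, ht]) h

omit [Finite G] in
/-- An involution centralising a central subgroup: the odd primes of that group are not inverted. -/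
theorem not_inverted_centralizer (h : DualFree G) {t : G} (ht : orderOf t = 2) (r : ℕ)
    (hr : r.Prime) (hr2 : r ≠ 2) : ¬ Inverted (Subgroup.centralizer ({t} : Set G)) r := by
  intro hi
  have hi' := hi.map _ (Subgroup.centralizer ({t} : Set G)).subtype_injective
  obtain ⟨x, -, hx, -, -⟩ := hi
  exact h r hr hr2 hi' ⟨x, t, by rw [← hx, Subgroup.orderOf_coe], ht,
    (Subgroup.mem_centralizer_singleton_iff.1 x.2).symm⟩

end TwoCore

end CfsgLib.DualFree
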