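import Cfsg.Agent.DualFree.Conjugate

/-!
# Groups with trivial odd core in which subgroups of equal order are conjugate
-/

set_option autoImplicit false
set_option linter.style.haveILetI false
set_option linter.unusedSectionVars false

namespace CfsgLib.DualFree

open CfsgLib.Small CfsgLib.SEmbed Subgroup
open scoped Pointwise

variable {G : Type*} [Group G] [Finite G]

theorem twoElementary_of_sylow (E : Sylow 2 G) (hsq : ∀ e ∈ (E : Subgroup G), e * e = 1) :
    TwoElementary G := fun g ⟨k, hk⟩ => by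
  haveI : Fact (Nat.Prime 2) := ⟨Nat.prime_two⟩
  have hp : IsPGroup 2 (Subgroup.zpowers g) := fun ⟨z, hz⟩ => by
    obtain ⟨i, rfl⟩ := Subgroup.mem_zpowers_iff.1 hz
    refine ⟨k, Subtype.ext ?_⟩
    show (g ^ i) ^ 2 ^ k = 1
    rw [← zpow_natCast, ← zpow_mul, mul_comm, zpow_mul, zpow_natCast, hk, one_zpow]
  obtain ⟨Q, hQ⟩ := hp.exists_le_sylow
  obtain ⟨c, rfl⟩ := MulAction.exists_smul_eq G E Q
  have hg : g ∈ MulAut.conj c • (E : Subgroup G) := hQ (mem_zpowers g)
  obtain ⟨e, he, rfl⟩ := hg
  show MulAut.conj c e * MulAut.conj c e = 1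
  rw [← map_mul, hsq e he, map_one]

/-- A cyclic Sylow 2-subgroup is the whole group. -/
theorem eq_top_of_cyclic (hO : Cfsg.oddCore G = ⊥) (E : Sylow 2 G) (hc : IsCyclic E) :
    (E : Subgroup G) = ⊤ := by
  haveI : Fact (Nat.Prime 2) := ⟨Nat.prime_two⟩
  by_cases heven : 2 ∣ Nat.card G
  · have hmin : (Nat.card G).minFac = 2 := (Nat.minFac_eq_two_iff _).2 heven
    have hC := IsCyclic.isComplement' hmin (P := E) hc
    set K := (MonoidHom.transferSylow E (IsCyclic.normalizer_le_centralizer hmin
      (P := E) hc)).ker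
    have hKodd : Odd (Nat.card K) := Nat.odd_iff.2 (by
      have h1 := E.not_dvd_index
      rw [hC.index_eq_card] at h1
      omega)
    have := CfsgLib.ExtremelyClosed.le_oddCore_of_odd (N := K) inferInstance hKodd
    rw [hO, le_bot_iff] at this
    rw [this] at hC
    exact isComplement'_bot_left.1 hC
  · have h1 := CfsgLib.ExtremelyClosed.le_oddCore_of_odd (N := (⊤ : Subgroup G)) inferInstance
      (by rw [Subgroup.card_top]; exact Nat.odd_iff.2 (by omega))
    rw [hO, le_bot_iff] at h1
    exact le_antisymm le_top (h1.le.trans bot_le)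

theorem semiaffine_five_card :
    32 * 31 * 5 ≤ Nat.card (Cfsg.semiaffineGroup (GaloisField 2 5)) := by
  haveI : Fact (Nat.Prime 2) := ⟨Nat.prime_two⟩
  haveI := Fintype.ofFinite (GaloisField 2 5)
  set K := GaloisField 2 5
  have hK : Fintype.card K = 2 ^ 5 := by
    rw [← Nat.card_eq_fintype_card]; exact GaloisField.card 2 5 (by norm_num)
  let f : Kˣ × K × (K ≃+* K) → Cfsg.semiaffineGroup K := fun p =>
    ⟨p.2.2.toEquiv.trans ((Units.mulLeft p.1).trans (Equiv.addRight p.2.1)),
      p.1, p.2.1, p.2.2, fun x => rfl⟩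
  have hf : Function.Injective f := by
    rintro ⟨a, b, φ⟩ ⟨c, d, ψ⟩ e
    have hx : ∀ x, (a : K) * φ x + b = (c : K) * ψ x + d := fun x =>
      congrArg (fun σ : Cfsg.semiaffineGroup K => (σ : Equiv.Perm K) x) e
    have h0 := hx 0
    simp only [map_zero, mul_zero, zero_add] at h0
    have h1 := hx 1
    simp only [map_one, mul_one, h0] at h1
    have hac : a = c := Units.ext (add_right_cancel h1)
    subst h0 hac
    have : φ = ψ := RingEquiv.ext fun x => mul_left_cancel₀ a.ne_zero (add_right_cancel (hx x))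
    rw [this]
  refine le_trans (le_of_eq ?_) (Nat.card_le_card_of_injective f hf)
  rw [Nat.card_prod, Nat.card_prod, Nat.card_units, CfsgLib.AutPSL.card_ringEquiv hK (by norm_num),
    Nat.card_eq_fintype_card (α := K), hK]
  norm_num

/-- The possible groups with elementary abelian Sylow 2-subgroups of order at least eight. -/
theorem big_case (h : AllConj G) (hO : Cfsg.oddCore G = ⊥) (E : Sylow 2 G)
    (hel : Cfsg.IsElementaryAbelian 2 (E : Subgroup G)) (n : ℕ) (hn : 3 ≤ n)
    (hcard : Nat.card E = 2 ^ n) :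
    Nonempty (G ≃* Cfsg.affineGroup (GaloisField 2 3)) ∨
    Nonempty (G ≃* Cfsg.semiaffineGroup (GaloisField 2 3)) ∨
    Nonempty (G ≃* Cfsg.semiaffineGroup (GaloisField 2 5)) ∨
    Nonempty (G ≃* Matrix.ProjectiveSpecialLinearGroup (Fin 2) (GaloisField 2 3)) ∨
    Nonempty (G ≃* MulAut (Matrix.ProjectiveSpecialLinearGroup (Fin 2) (GaloisField 2 5))) := by
  haveI : Fact (Nat.Prime 2) := ⟨Nat.prime_two⟩
  have hsq : ∀ e ∈ (E : Subgroup G), e * e = 1 := fun e he => by rw [← pow_two]; exact hel.2 e he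
  set N := normalizer ((E : Subgroup G) : Set G) with hN
  have hsolN : Group.IsSolvable N := by
    haveI : ((E.subtype le_normalizer : Sylow 2 N) : Subgroup N).Normal := by
      rw [Sylow.coe_subtype]; exact Subgroup.normal_in_normalizer
    exact isSolvable_of_normal (E.subtype le_normalizer)
  haveI := hsolN
  have hS4025 := Cfsg.Agent.S4025.result (h.pgroup 2 Nat.prime_two) E n hn hel hcard N rfl
    (Group.isSolvable_of_surjective (QuotientGroup.mk'_surjective _))
  rcases hasStructure G h.dualFree (twoElementary_of_sylow E hsq) hO E with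
    hnorm | ⟨S, hSn, hSs, hES, hSc, hS⟩
  · have hNtop : N = ⊤ := Subgroup.normalizer_eq_top_iff.2 hnorm
    have hcore : Cfsg.pPrimeCore 2 N = ⊥ := by
      haveI : N.Normal := by rw [hNtop]; infer_instance
      exact oddCore_eq_bot_of_normal hO N
    let e0 : G ≃* N ⧸ Cfsg.pPrimeCore 2 N :=
      (Subgroup.topEquiv.symm.trans (MulEquiv.subgroupCongr hNtop.symm)).trans
        (QuotientGroup.quotientBot.symm.trans (QuotientGroup.quotientMulEquivOfEq hcore.symm))
    rcases hS4025 with ⟨-, -, h3⟩ | ⟨-, -, ⟨e⟩⟩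
    · rcases h3 rfl with h4 | h4
      · obtain ⟨e⟩ := h4
        exact Or.inr (Or.inl ⟨e0.trans e⟩)
      · obtain ⟨e⟩ := h4
        exact Or.inl ⟨e0.trans e⟩
    · exact Or.inr (Or.inr (Or.inl ⟨e0.trans e⟩))
  haveI := hSn
  haveI := hSs
  set P := E.subtype hES with hP
  have hPcard : Nat.card P = 2 ^ n := by
    rw [← hcard]
    exact Nat.card_congr (subgroupOfEquivOfLe hES).toEquiv
  obtain ⟨F, fF, fFin, hF, ⟨e⟩⟩ := exists_equiv_PSL2 (hS P)
  rw [hPcard] at hF
  have hmul := card_mulAut (by omega) hF e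
  have hinj : Function.Injective (MulAut.conjNormal : G →* MulAut S) := by
    rw [← MonoidHom.ker_eq_bot_iff, eq_bot_iff, ← hSc]
    intro g hg
    refine Subgroup.mem_centralizer_iff.2 fun x hx => ?_
    have := congrArg Subtype.val (DFunLike.congr_fun (MonoidHom.mem_ker.1 hg) (⟨x, hx⟩ : S))
    simp only [MulAut.conjNormal_apply, MulAut.one_apply] at this
    exact (mul_inv_eq_iff_eq_mul.1 this).symm
  have hidx : S.index ∣ n := by
    have hd := Subgroup.card_dvd_of_injective _ hinj
    rw [hmul, ← S.card_mul_index, mul_comm n] at hd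
    exact Nat.dvd_of_mul_dvd_mul_left Nat.card_pos hd
  have hNcard : Nat.card N = (2 ^ n - 1) * 2 ^ n * S.index := by
    rw [hN, card_normalizer_mul E hES, card_normalizer_sylow (hS P), hPcard]
  rcases hS4025 with ⟨hn3, -, -⟩ | ⟨hn5, -, ⟨f⟩⟩
  · -- `n = 3`: the index is not three
    subst hn3
    have hS1 : S.index = 1 := by
      rcases (Nat.dvd_prime Nat.prime_three).1 hidx with h1 | h3
      · exact h1
      · exfalso
        haveI : Fact (Nat.Prime 3) := ⟨Nat.prime_three⟩
        obtain ⟨⟨g, hgN⟩, hg⟩ := exists_prime_orderOf_dvd_card' (G := N) 3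
          (by rw [hNcard, h3]; exact dvd_mul_left 3 _)
        rw [Subgroup.orderOf_mk] at hg
        set X : Set G := ((E : Subgroup G) : Set G) \ {1} with hX
        have hX3 : ¬ 3 ∣ Nat.card X := by
          rw [hX, Nat.card_coe_set_eq, Set.ncard_diff_singleton_of_mem (one_mem (E : Subgroup G)),
            ← Nat.card_coe_set_eq]
          show ¬ 3 ∣ Nat.card E - 1
          rw [hcard]
          norm_num
        obtain ⟨t, ⟨htE, ht1⟩, htg⟩ := exists_commute_of_not_dvd hX3 hg fun k hk s hs =>
          ⟨(mem_normalizer_iff.1 ((zpowers_le.2 hgN) hk) s).1 hs.1, fun e1 => hs.2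
            (Set.mem_singleton_iff.2 (by
              rw [Set.mem_singleton_iff, mul_inv_eq_one, mul_eq_left] at e1
              exact e1))⟩
        have hi := (inverted_of_prime_dvd (hS P) Nat.prime_three (by norm_num) (by
          rw [card_simple P (hS P), hPcard]; norm_num)).map S.subtype S.subtype_injective
        exact h.dualFree 3 Nat.prime_three (by norm_num) hi
          ⟨g, t, hg, orderOf_eq_two_iff_sq.2 ⟨ht1, hsq t htE⟩, htg.symm⟩
    have htop := Subgroup.index_eq_one.1 hS1
    refine Or.inr (Or.inr (Or.inr (Or.inl ⟨?_⟩)))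
    haveI := Fintype.ofFinite (GaloisField 2 3)
    exact (Subgroup.topEquiv.symm.trans (MulEquiv.subgroupCongr htop.symm)).trans
      (e.trans (CfsgLib.Linear.pslFieldCongr (by
        rw [hF, ← Nat.card_eq_fintype_card, GaloisField.card 2 3 (by norm_num)])))
  · subst hn5
    haveI := Fintype.ofFinite (GaloisField 2 5)
    have hS5 : S.index = 5 := by
      rcases (Nat.dvd_prime (by norm_num)).1 hidx with h1 | h1
      · exfalso
        have hle := semiaffine_five_card
        rw [← Nat.card_congr f.toEquiv] at hle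
        have h2 : Nat.card (N ⧸ Cfsg.pPrimeCore 2 N) ≤ Nat.card N :=
          Nat.le_of_dvd Nat.card_pos (Subgroup.card_quotient_dvd_card _)
        rw [hNcard, h1] at h2
        norm_num at hle h2
        omega
      · exact h1
    have hbij : Function.Bijective (MulAut.conjNormal : G →* MulAut S) := by
      refine (Nat.bijective_iff_injective_and_card _).2 ⟨hinj, ?_⟩
      rw [hmul, ← S.card_mul_index, hS5, mul_comm]
    refine Or.inr (Or.inr (Or.inr (Or.inr ⟨?_⟩)))
    exact (MulEquiv.ofBijective _ hbij).trans (MulAut.congr (e.trans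
      (CfsgLib.Linear.pslFieldCongr (by
        rw [hF, ← Nat.card_eq_fintype_card, GaloisField.card 2 5 (by norm_num)]))))

theorem quaternion_facts : ∀ a : QuaternionGroup 2, a * a * (a * a) = 1 ∧
    ∀ b : QuaternionGroup 2, a * a = 1 → b * b = 1 → a ≠ 1 → b ≠ 1 → a = b := by decide

/-- Quaternion Sylow 2-subgroup of order eight. -/
theorem quaternion_case (h : AllConj G) (hO : Cfsg.oddCore G = ⊥) (E : Sylow 2 G)
    (e : (E : Subgroup G) ≃* QuaternionGroup 2) :
    Nonempty (G ≃* Matrix.SpecialLinearGroup (Fin 2) (ZMod 3)) ∨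
      Nonempty (G ≃* Matrix.SpecialLinearGroup (Fin 2) (ZMod 5)) := by
  haveI : Fact (Nat.Prime 2) := ⟨Nat.prime_two⟩
  have hZ2 : Nat.card (Subgroup.center G) = 2 :=
    Cfsg.Agent.S0201.result E 0 e fun N hN ho => le_bot_iff.1
      (hO ▸ CfsgLib.ExtremelyClosed.le_oddCore_of_odd hN ho)
  set Z := Subgroup.center G with hZ
  have hZp : IsPGroup 2 Z := IsPGroup.of_card (n := 1) (by rw [hZ2, pow_one])
  have hZE : ∀ Q : Sylow 2 G, Z ≤ (Q : Subgroup G) := fun Q => normal_le_sylow hZp Q
  have hQ : ∀ Q : Sylow 2 G, Nonempty ((Q : Subgroup G) ≃* QuaternionGroup 2) := fun Q =>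
    ⟨(E.equiv Q).symm.trans e⟩
  have hE8 : Nat.card E = 8 := by
    rw [Nat.card_congr e.toEquiv, Nat.card_eq_fintype_card, QuaternionGroup.card]
  obtain ⟨z, hzZ, hz⟩ := exists_invol_mem (K := Z) (by rw [hZ2]; exact even_two)
  -- every involution is `z`
  have huniq : ∀ t : G, t * t = 1 → t ≠ 1 → t = z := by
    intro t ht ht1
    have hp : IsPGroup 2 (Subgroup.zpowers t) := IsPGroup.of_card (n := 1)
      (by rw [Nat.card_zpowers, orderOf_eq_two_iff_sq.2 ⟨ht1, ht⟩, pow_one])
    obtain ⟨Q, hQt⟩ := hp.exists_le_sylow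
    obtain ⟨f⟩ := hQ Q
    have h1 : ∀ (w : G) (hw : w ∈ (Q : Subgroup G)), w * w = 1 → f ⟨w, hw⟩ * f ⟨w, hw⟩ = 1 :=
      fun w hw e1 => by
        rw [← map_mul, show (⟨w, hw⟩ : (Q : Subgroup G)) * ⟨w, hw⟩ = 1 from Subtype.ext e1, map_one]
    have h2 : ∀ (w : G) (hw : w ∈ (Q : Subgroup G)), w ≠ 1 → f ⟨w, hw⟩ ≠ 1 := fun w hw e1 e2 =>
      e1 (congrArg Subtype.val (f.map_eq_one_iff.1 e2))
    have := (quaternion_facts _).2 _ (h1 t (hQt (mem_zpowers t)) ht)
      (h1 z (hZE Q hzZ) (mul_self_of_orderOf_two hz)) (h2 t _ ht1) (h2 z _ (ne_one_of_orderOf_two hz))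
    exact congrArg Subtype.val (f.injective this)
  -- squares in the Sylow subgroup are central
  have hsqZ : ∀ x ∈ (E : Subgroup G), x * x ∈ Z := by
    intro x hx
    by_cases hxx : x * x = 1
    · rw [hxx]; exact one_mem _
    · have h1 := (quaternion_facts (e ⟨x, hx⟩)).1
      rw [← map_mul, ← map_mul, e.map_eq_one_iff] at h1
      have h1' : x * x * (x * x) = 1 := congrArg Subtype.val h1
      rw [huniq _ h1' hxx]
      exact hzZ
  have hOq : Cfsg.oddCore (G ⧸ Z) = ⊥ := by
    set K := (Cfsg.oddCore (G ⧸ Z)).comap (QuotientGroup.mk' Z) with hK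
    haveI : K.Normal := inferInstance
    have hcK : Nat.card K = Nat.card (Cfsg.oddCore (G ⧸ Z)) * 2 := by
      rw [hK, card_comap_mk, hZ2]
    have hZK : Z ≤ K := fun x hx => by
      rw [hK, Subgroup.mem_comap, QuotientGroup.mk'_apply, (QuotientGroup.eq_one_iff x).2 hx]
      exact one_mem _
    have htop := eq_top_of_central (oddCore_eq_bot_of_normal hO K) (A := Z.subgroupOf K)
      (fun a ha => Subgroup.mem_center_iff.2 fun c => Subtype.ext
        (Subgroup.mem_center_iff.1 (mem_subgroupOf.1 ha) (c : G)))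
      (hZp.of_equiv (subgroupOfEquivOfLe hZK).symm) (by
        have h1 := (Z.subgroupOf K).card_mul_index
        rw [Nat.card_congr (subgroupOfEquivOfLe hZK).toEquiv, hZ2, hcK, mul_comm] at h1
        rw [Nat.eq_of_mul_eq_mul_right two_pos h1]
        exact CfsgLib.ExtremelyClosed.odd_card_oddCore' _)
    refine Subgroup.eq_bot_of_card_eq _ ?_
    have h1 := congrArg (fun S : Subgroup G => Nat.card S)
      (le_antisymm hZK (Subgroup.subgroupOf_eq_top.1 htop))
    rw [hZ2, hcK] at h1
    omega
  set E' := E.mapSurjective (QuotientGroup.mk'_surjective Z) with hE'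
  have hE'mem : ∀ q ∈ (E' : Subgroup (G ⧸ Z)), ∃ x ∈ (E : Subgroup G), (x : G ⧸ Z) = q := fun q hq => hq
  have hel : Cfsg.IsElementaryAbelian 2 (E' : Subgroup (G ⧸ Z)) := by
    have hsq : ∀ q ∈ (E' : Subgroup (G ⧸ Z)), q * q = 1 := fun q hq => by
      obtain ⟨x, hx, rfl⟩ := hE'mem q hq
      rw [← QuotientGroup.mk_mul, QuotientGroup.eq_one_iff]
      exact hsqZ x hx
    exact ⟨⟨⟨fun a b => Subtype.ext (commute_of_sq hsq a.2 b.2).eq⟩⟩,
      fun q hq => by rw [pow_two]; exact hsq q hq⟩
  have h4 : Nat.card E' = 4 := by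
    rw [E'.card_eq_multiplicity]
    have h1 := E.card_eq_multiplicity
    have h2 : Nat.card G = Nat.card (G ⧸ Z) * 2 := by
      rw [Subgroup.card_eq_card_quotient_mul_card_subgroup Z, hZ2]
    rw [h2, Nat.factorization_mul Nat.card_pos.ne' two_ne_zero, Finsupp.add_apply,
      Nat.prime_two.factorization_self, pow_succ] at h1
    omega
  rcases four_case (h.quotient Z) hOq E' hel h4 with ⟨hc, ⟨f⟩⟩ | ⟨hc, hns, -⟩
  · left
    have hG : Nat.card G = 24 := by
      rw [Subgroup.card_eq_card_quotient_mul_card_subgroup Z, hZ2, hc]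
    rcases CfsgLib.RegLinear.index_two_or_sl23 hG (E : Subgroup G) e with ⟨N, hN, hN2⟩ | h
    swap
    · exact h
    exfalso
    haveI := hN
    have hzN : z ∈ N := by
      have hNc : Nat.card N = 12 := by
        have := N.card_mul_index
        rw [hN2, hG] at this
        omega
      obtain ⟨t, htN, ht⟩ := exists_invol_mem (K := N) (by rw [hNc]; decide)
      rwa [← huniq t (mul_self_of_orderOf_two ht) (ne_one_of_orderOf_two ht)]
    have hZN : Z ≤ N := by
      intro x hx
      by_cases hx1 : x = 1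
      · exact hx1 ▸ one_mem _
      · refine huniq x ?_ hx1 ▸ hzN
        rw [← pow_two, ← hZ2]
        exact congrArg Subtype.val (pow_card_eq_one' (x := (⟨x, hx⟩ : Z)))
    set N' := N.map (QuotientGroup.mk' Z) with hN'
    haveI : N'.Normal := hN.map _ (QuotientGroup.mk'_surjective Z)
    have hidx : N'.index = 2 := by
      rw [hN', Subgroup.index_map_eq _ (QuotientGroup.mk'_surjective Z)
        (by rwa [QuotientGroup.ker_mk']), hN2]
    -- the alternating group of degree four has no subgroup of index two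
    set A := N'.map f.toMonoidHom with hA
    have hA2 : A.index = 2 := by
      rw [hA]
      erw [Subgroup.index_map_equiv]
      exact hidx
    have hAc : Nat.card A = 6 := by
      have := A.card_mul_index
      rw [hA2, Nat.card_congr f.symm.toEquiv, hc] at this
      omega
    have hmem : ∀ x : alternatingGroup (Fin 4), x * x ∈ A := fun x => by
      rw [← pow_two]
      exact Subgroup.sq_mem_of_index_two hA2 x
    have hall : ∀ y : alternatingGroup (Fin 4), orderOf y = 3 → y ∈ A := fun y hy => by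
      have h3 := hmem (y * y)
      rwa [show y * y * (y * y) = y by
        rw [show y * y * (y * y) = y ^ orderOf y * y by rw [hy]; simp [pow_succ, mul_assoc], pow_orderOf_eq_one,
          one_mul]] at h3
    have h8 : (8 : ℕ) ≤ Nat.card A := by
      have h9 : Nat.card {y : alternatingGroup (Fin 4) // y * y * y = 1} = 9 := by
        rw [Nat.card_eq_fintype_card]; decide
      have h10 : Nat.card {y : alternatingGroup (Fin 4) // y * y * y = 1} ≤ Nat.card A :=
        Nat.card_le_card_of_injective (fun y => (⟨y.1, by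
          by_cases h1 : y.1 = 1
          · rw [h1]; exact one_mem A
          · haveI : Fact (Nat.Prime 3) := ⟨Nat.prime_three⟩
            exact hall _ (orderOf_eq_prime (by rw [pow_succ, pow_two]; exact y.2) h1)⟩ : A))
          fun a b e => Subtype.ext (congrArg (fun w : A => (w : alternatingGroup (Fin 4))) e)
      omega
    omega
  · right
    refine Cfsg.Agent.S3378.result.1 G ?_ ?_ hQ
    · rw [Subgroup.card_eq_card_quotient_mul_card_subgroup Z, hZ2, hc]
    · intro hs
      exact hns (Group.isSolvable_of_surjective (QuotientGroup.mk'_surjective Z))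

end CfsgLib.DualFree
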