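import Cfsg.Agent.DualFree.Structure
import Cfsg.Agent.S4020
import Cfsg.Agent.S4025
import Cfsg.Agent.S0228
import Cfsg.Agent.S0252
import Cfsg.Agent.S0813
import Cfsg.Agent.S3378
import Cfsg.Agent.S0201
import Cfsg.Agent.Linear.Basic
import Cfsg.Agent.RegularLinear.Main
import Cfsg.Agent.TwoGroups.Automizer

/-!
# Groups in which subgroups of equal order are conjugate
-/

set_option autoImplicit false
set_option linter.style.haveILetI false
set_option linter.unusedSectionVars false

namespace CfsgLib.DualFree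

open CfsgLib.Small CfsgLib.SEmbed Subgroup
open scoped Pointwise

/-- Subgroups of equal order are conjugate. -/
def AllConj (G : Type*) [Group G] : Prop :=
  ∀ H K : Subgroup G, Nat.card H = Nat.card K → ∃ g : G, K = H.map (MulAut.conj g).toMonoidHom

variable {G : Type*} [Group G] [Finite G]

theorem card_comap_mk (N : Subgroup G) [N.Normal] (H : Subgroup (G ⧸ N)) :
    Nat.card (H.comap (QuotientGroup.mk' N)) = Nat.card H * Nat.card N := by
  have h1 := (H.comap (QuotientGroup.mk' N)).card_mul_index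
  rw [index_comap_of_surjective _ (QuotientGroup.mk'_surjective N),
    Subgroup.card_eq_card_quotient_mul_card_subgroup N, ← H.card_mul_index] at h1
  refine Nat.eq_of_mul_eq_mul_right (Nat.pos_of_ne_zero H.index_ne_zero_of_finite) ?_
  rw [h1, mul_right_comm]

theorem AllConj.quotient (h : AllConj G) (N : Subgroup G) [N.Normal] : AllConj (G ⧸ N) := by
  intro H K hHK
  obtain ⟨g, hg⟩ := h (H.comap (QuotientGroup.mk' N)) (K.comap (QuotientGroup.mk' N))
    (by rw [card_comap_mk, card_comap_mk, hHK])
  refine ⟨QuotientGroup.mk' N g, ?_⟩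
  conv_lhs => rw [← map_comap_eq_self_of_surjective (QuotientGroup.mk'_surjective N) K, hg]
  conv_rhs => rw [← map_comap_eq_self_of_surjective (QuotientGroup.mk'_surjective N) H]
  rw [map_map, map_map]
  congr 1

theorem AllConj.dualFree (h : AllConj G) : DualFree G := by
  rintro r hr hr2 ⟨x, t, hx, ht, hinv⟩ ⟨y, s, hy, hs, hc⟩
  have hx1 : x ≠ 1 := fun e => hr.one_lt.ne (by rw [← hx, e, orderOf_one])
  have htt := mul_self_of_orderOf_two ht
  have htx : orderOf (t * x) = 2 := by
    refine orderOf_eq_two_iff_sq.2 ⟨fun e => ?_, ?_⟩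
    · have e' : x = t := by
        rw [eq_inv_of_mul_eq_one_right e, inv_eq_self_of_orderOf_two ht]
      rw [e'] at hx
      exact hr2 (hx.symm.trans ht)
    · rw [inv_eq_self_of_orderOf_two ht] at hinv
      calc t * x * (t * x) = t * x * t * x := by group
        _ = 1 := by rw [hinv, inv_mul_cancel]
  have hne : t ≠ t * x := fun e => hx1 (by simpa using e)
  have hprod : t * (t * x) = x := by rw [← mul_assoc, htt, one_mul]
  obtain ⟨g, hg⟩ := h (Subgroup.zpowers (s * y)) (Subgroup.closure ({t, t * x} : Set G)) (by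
    rw [card_closure_pair_invol ht htx hne, hprod, Nat.card_zpowers,
      hc.orderOf_mul_eq_mul_orderOf_of_coprime (by
        rw [hs, hy]; exact (Nat.coprime_primes Nat.prime_two hr).2 (Ne.symm hr2)), hs, hy, hx])
  obtain ⟨a, ha, hae⟩ : t ∈ (Subgroup.zpowers (s * y)).map (MulAut.conj g).toMonoidHom :=
    hg ▸ Subgroup.subset_closure (Set.mem_insert t _)
  obtain ⟨b, hb, hbe⟩ : t * x ∈ (Subgroup.zpowers (s * y)).map (MulAut.conj g).toMonoidHom :=
    hg ▸ Subgroup.subset_closure (Set.mem_insert_of_mem t rfl)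
  obtain ⟨i, rfl⟩ := Subgroup.mem_zpowers_iff.1 ha
  obtain ⟨j, rfl⟩ := Subgroup.mem_zpowers_iff.1 hb
  have hcomm : Commute t (t * x) := by
    rw [← hbe, ← hae]
    exact ((Commute.refl (s * y)).zpow_zpow i j).map _
  have hxx : x * x = 1 := by
    have h1 : t * x * t⁻¹ = x := by
      have := hcomm.eq
      rw [← mul_assoc, htt, one_mul] at this
      rw [inv_eq_self_of_orderOf_two ht]
      exact this.symm
    rw [hinv] at h1
    nth_rw 1 [← h1]
    exact inv_mul_cancel x
  have := orderOf_dvd_of_pow_eq_one (n := 2) (x := x) (by rw [pow_two, hxx])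
  rw [hx] at this
  exact hr2 ((Nat.prime_dvd_prime_iff_eq hr Nat.prime_two).1 this)

theorem AllConj.pgroup (h : AllConj G) : ∀ p : ℕ, p.Prime → ∀ H K : Subgroup G, IsPGroup p H →
    IsPGroup p K → Nat.card H = Nat.card K → ∃ g : G, K = H.map (MulAut.conj g).toMonoidHom :=
  fun _ _ H K _ _ e => h H K e

theorem eq_top_of_central (hO : Cfsg.oddCore G = ⊥) {A : Subgroup G} (hA : A ≤ Subgroup.center G)
    (hA2 : IsPGroup 2 A) (hidx : Odd A.index) : A = ⊤ := by
  haveI : A.Normal := ⟨fun a ha g => by
    rw [Subgroup.mem_center_iff.1 (hA ha) g, mul_inv_cancel_right]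
    exact ha⟩
  obtain ⟨k, hk⟩ := IsPGroup.iff_card.1 hA2
  have hcop : (Nat.card A).Coprime A.index := by
    rw [hk]; exact (Nat.coprime_two_left.2 hidx).pow_left k
  obtain ⟨H, hH⟩ := Subgroup.exists_right_complement'_of_coprime hcop
  have hHn : H.Normal := by
    refine ⟨fun x hx g => ?_⟩
    obtain ⟨⟨a, b⟩, hab⟩ := hH.2 g
    change (a : G) * b = g at hab
    have hmem : (b : G) * x * (b : G)⁻¹ ∈ H := mul_mem (mul_mem b.2 hx) (inv_mem b.2)
    rw [← hab, show (a : G) * b * x * ((a : G) * b)⁻¹ = a * ((b : G) * x * (b : G)⁻¹) * (a : G)⁻¹ by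
      group, ← Subgroup.mem_center_iff.1 (hA a.2) ((b : G) * x * (b : G)⁻¹), mul_inv_cancel_right]
    exact hmem
  have h1 := CfsgLib.ExtremelyClosed.le_oddCore_of_odd hHn
    (by rw [← hH.symm.index_eq_card]; exact hidx)
  rw [hO, le_bot_iff] at h1
  rw [h1] at hH
  exact isComplement'_bot_right.1 hH

/-- With a normal Sylow 2-subgroup of exponent 2 and trivial odd core: it is self-centralising. -/
theorem centralizer_eq_of_normal (hO : Cfsg.oddCore G = ⊥) (E : Sylow 2 G)
    [(E : Subgroup G).Normal] (hsq : ∀ e ∈ (E : Subgroup G), e * e = 1) :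
    Subgroup.centralizer ((E : Subgroup G) : Set G) = (E : Subgroup G) := by
  set C := Subgroup.centralizer ((E : Subgroup G) : Set G) with hC
  have hEC : (E : Subgroup G) ≤ C := fun e he => Subgroup.mem_centralizer_iff.2 fun x hx =>
    (commute_of_sq hsq hx he).eq
  haveI : C.Normal := Subgroup.normal_centralizer
  have h := eq_top_of_central (oddCore_eq_bot_of_normal hO C)
    (A := (E : Subgroup G).subgroupOf C)
    (fun e he => Subgroup.mem_center_iff.2 fun c => Subtype.ext
      (Subgroup.mem_centralizer_iff.1 c.2 _ (mem_subgroupOf.1 he)).symm)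
    (E.isPGroup'.of_equiv (subgroupOfEquivOfLe hEC).symm) (Nat.odd_iff.2 (by
      have h1 : ¬ 2 ∣ ((E : Subgroup G).subgroupOf C).index := fun hd =>
        E.not_dvd_index (hd.trans (Subgroup.relIndex_dvd_index_of_le hEC))
      omega))
  exact le_antisymm (Subgroup.subgroupOf_eq_top.1 h) hEC

theorem isSolvable_of_normal (E : Sylow 2 G) [(E : Subgroup G).Normal] : Group.IsSolvable G := by
  haveI : Fact (Nat.Prime 2) := ⟨Nat.prime_two⟩
  haveI : Group.IsNilpotent (E : Subgroup G) := E.isPGroup'.isNilpotent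
  haveI : Group.IsSolvable (G ⧸ (E : Subgroup G)) := Cfsg.Agent.S0205.result (Nat.odd_iff.2 (by
    have h1 := E.not_dvd_index
    rw [Subgroup.index_eq_card] at h1
    omega))
  exact (Group.isSolvable_iff_subgroup_quotient (E : Subgroup G)).2 ⟨inferInstance, inferInstance⟩

/-- The simple normal subgroup of the structure theorem, its order and the normalizer. -/
theorem card_simple {S : Subgroup G} (P : Sylow 2 S) (hS : ElemCentralizers P) :
    Nat.card S = (Nat.card P + 1) * ((Nat.card P - 1) * Nat.card P) := by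
  rw [← card_points hS, ← card_normalizer_sylow hS,
    ← Subgroup.card_eq_card_quotient_mul_card_subgroup]

theorem not_isSolvable_simple {S : Subgroup G} [IsSimpleGroup S] (P : Sylow 2 S)
    (hS : ElemCentralizers P) : ¬ Group.IsSolvable S := fun hs => by
  have hc := IsSimpleGroup.comm_iff_isSolvable.2 hs
  exact hS.not_normal ⟨fun x hx g => by rwa [hc g x, mul_inv_cancel_right]⟩

theorem card_mulAut {S : Subgroup G} {F : Type} [Field F] [Fintype F] {n : ℕ} (hn : 2 ≤ n)
    (hF : Fintype.card F = 2 ^ n)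
    (e : S ≃* Matrix.ProjectiveSpecialLinearGroup (Fin 2) F) :
    Nat.card (MulAut S) = n * Nat.card S := by
  haveI : Fact (Nat.Prime 2) := ⟨Nat.prime_two⟩
  have h4 : 4 ≤ 2 ^ n := le_trans (by norm_num) (Nat.pow_le_pow_right two_pos hn)
  rw [Nat.card_congr (MulAut.congr e).toEquiv,
    Cfsg.Agent.S0813.result 2 n (by omega) hF 2 le_rfl fun _ => h4, if_pos rfl, one_mul,
    CfsgLib.Linear.card_PGL, ← CfsgLib.Linear.card_PSL_mul (n := Fin 2) (F := F),
    Fintype.card_fin, hF,
    show Nat.gcd 2 (2 ^ n - 1) = 1 from Nat.coprime_two_left.2 ⟨2 ^ (n - 1) - 1, by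
      have : 2 ^ n = 2 * 2 ^ (n - 1) := by rw [← pow_succ']; congr 1; omega
      omega⟩, one_mul, Nat.card_congr e.toEquiv]

/-- `|N_G(E)| = |N_S(E)| |G : S|`. -/
theorem card_normalizer_mul {S : Subgroup G} [S.Normal] (E : Sylow 2 G) (hES : (E : Subgroup G) ≤ S) :
    Nat.card (normalizer ((E : Subgroup G) : Set G)) =
      Nat.card (normalizer (((E.subtype hES : Sylow 2 S) : Subgroup S) : Set S)) * S.index := by
  haveI : Fact (Nat.Prime 2) := ⟨Nat.prime_two⟩
  set N := normalizer ((E : Subgroup G) : Set G) with hN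
  have h1 : N ⊔ S = ⊤ := by
    have := Sylow.normalizer_sup_eq_top (N := S) (E.subtype hES)
    simp only [Sylow.coe_subtype, Subgroup.map_subgroupOf_eq_of_le hES] at this
    exact this
  have h2 := LocalEven50.card_sup_mul_card_inf N S
  rw [h1, Subgroup.card_top, ← S.card_mul_index] at h2
  have h3 : N.subgroupOf S =
      normalizer (((E.subtype hES : Sylow 2 S) : Subgroup S) : Set S) := by
    ext q
    rw [mem_subgroupOf, mem_normalizer_iff, mem_normalizer_iff]
    simp only [Sylow.coe_subtype, mem_subgroupOf, Subgroup.coe_mul, Subgroup.coe_inv]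
    refine ⟨fun h x => h x, fun h z => ?_⟩
    by_cases hz : z ∈ S
    · exact h ⟨z, hz⟩
    · refine ⟨fun hzE => absurd (hES hzE) hz, fun hzE => absurd ?_ hz⟩
      have := mul_mem (mul_mem (inv_mem q.2) (hES hzE)) q.2
      rwa [show (q : G)⁻¹ * ((q : G) * z * (q : G)⁻¹) * q = z by group] at this
  rw [← h3, ← inf_subgroupOf_right,
    Nat.card_congr (subgroupOfEquivOfLe (inf_le_right : N ⊓ S ≤ S)).toEquiv]
  refine Nat.eq_of_mul_eq_mul_left (Nat.card_pos (α := S)) ?_
  rw [← mul_assoc, mul_comm (Nat.card S), ← h2]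
  ring

/-- Klein four Sylow subgroup. -/
theorem four_case (h : AllConj G) (hO : Cfsg.oddCore G = ⊥) (E : Sylow 2 G)
    (hel : Cfsg.IsElementaryAbelian 2 (E : Subgroup G)) (h4 : Nat.card E = 4) :
    (Nat.card G = 12 ∧ Nonempty (G ≃* alternatingGroup (Fin 4))) ∨
      (Nat.card G = 60 ∧ ¬ Group.IsSolvable G ∧ Nonempty (G ≃* alternatingGroup (Fin 5))) := by
  haveI : Fact (Nat.Prime 2) := ⟨Nat.prime_two⟩
  have hsq : ∀ e ∈ (E : Subgroup G), e * e = 1 := fun e he => by rw [← pow_two]; exact hel.2 e he
  have h2 : TwoElementary G := fun g ⟨k, hk⟩ => by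
    have hp : IsPGroup 2 (Subgroup.zpowers g) := fun ⟨z, hz⟩ => by
      obtain ⟨i, rfl⟩ := Subgroup.mem_zpowers_iff.1 hz
      refine ⟨k, Subtype.ext ?_⟩
      show (g ^ i) ^ 2 ^ k = 1
      rw [← zpow_natCast, ← zpow_mul, mul_comm, zpow_mul, zpow_natCast, hk, one_zpow]
    obtain ⟨Q, hQ⟩ := hp.exists_le_sylow
    obtain ⟨c, rfl⟩ := MulAction.exists_smul_eq G E Q
    have hg : g ∈ MulAut.conj c • (E : Subgroup G) := hQ (mem_zpowers g)
    obtain ⟨e, he, rfl⟩ := hg
    show MulAut.conj c e * MulAut.conj c e = 1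
    rw [← map_mul, hsq e he, map_one]
  rcases hasStructure G h.dualFree h2 hO E with hn | ⟨S, hSn, hSs, hES, hSc, hS⟩
  · left
    haveI := hn
    have hC := centralizer_eq_of_normal hO E hsq
    let φ : G →* MulAut (E : Subgroup G) := MulAut.conjNormal
    have hker : φ.ker = (E : Subgroup G) := by
      refine Eq.trans ?_ hC
      ext g
      rw [MonoidHom.mem_ker, Subgroup.mem_centralizer_iff]
      constructor
      · intro hg x hx
        have := congrArg Subtype.val (DFunLike.congr_fun hg (⟨x, hx⟩ : (E : Subgroup G)))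
        simp only [φ, MulAut.conjNormal_apply, MulAut.one_apply] at this
        exact (mul_inv_eq_iff_eq_mul.1 this).symm
      · intro hg
        refine MulEquiv.ext fun x => Subtype.ext ?_
        simp only [φ, MulAut.conjNormal_apply, MulAut.one_apply]
        exact mul_inv_eq_iff_eq_mul.2 (hg x x.2).symm
    have hdvd : (E : Subgroup G).index ∣ 6 := by
      rw [← hker, Subgroup.index_ker]
      exact (Subgroup.card_subgroup_dvd_card _).trans (CfsgLib.TwoGroups.card_mulAut_dvd_six h4)
    have hodd : ¬ 2 ∣ (E : Subgroup G).index := E.not_dvd_index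
    have hnoz : ∀ z : G, orderOf z = 2 → z ∉ Subgroup.center G := by
      intro z hz hzc
      have hp : IsPGroup 2 (Subgroup.zpowers z) :=
        IsPGroup.of_card (n := 1) (by rw [Nat.card_zpowers, hz, pow_one])
      haveI : (Subgroup.zpowers z).Normal := ⟨fun a ha g => by
        obtain ⟨i, rfl⟩ := Subgroup.mem_zpowers_iff.1 ha
        rw [Subgroup.mem_center_iff.1 (zpow_mem hzc i) g, mul_inv_cancel_right]
        exact ⟨i, rfl⟩⟩
      have hzE := normal_le_sylow hp E (mem_zpowers z)
      obtain ⟨w, hwE, hw1, hwz⟩ : ∃ w ∈ (E : Subgroup G), w ≠ 1 ∧ w ≠ z := by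
        by_contra hno
        push Not at hno
        have hle : (E : Subgroup G) ≤ Subgroup.zpowers z := fun w hw => by
          by_cases hw1 : w = 1
          · exact hw1 ▸ one_mem _
          · exact hno w hw hw1 ▸ mem_zpowers z
        have := Subgroup.card_le_of_le hle
        rw [Nat.card_zpowers, hz] at this
        change Nat.card E ≤ 2 at this
        omega
      obtain ⟨g, hg⟩ := h (Subgroup.zpowers z) (Subgroup.zpowers w) (by
        rw [Nat.card_zpowers, Nat.card_zpowers, hz, orderOf_eq_two_iff_sq.2 ⟨hw1, hsq w hwE⟩])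
      have : w ∈ Subgroup.zpowers z := by
        have h1 := mem_zpowers w
        rw [hg] at h1
        obtain ⟨a, ha, rfl⟩ := h1
        exact (inferInstance : (Subgroup.zpowers z).Normal).conj_mem a ha g
      obtain ⟨i, rfl⟩ := Subgroup.mem_zpowers_iff.1 this
      rcases Int.even_or_odd i with ⟨j, rfl⟩ | ⟨j, rfl⟩
      · exact hw1 (by rw [← two_mul, zpow_mul, zpow_two, mul_self_of_orderOf_two hz, one_zpow])
      · exact hwz (by rw [zpow_add, zpow_mul, zpow_two, mul_self_of_orderOf_two hz, one_zpow,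
          one_mul, zpow_one])
    have hidx : (E : Subgroup G).index = 3 := by
      have h6 := Nat.le_of_dvd (by norm_num) hdvd
      rcases (show (E : Subgroup G).index = 1 ∨ (E : Subgroup G).index = 3 by
        rcases Nat.lt_or_ge ((E : Subgroup G).index) 7 with h7 | h7
        · interval_cases (E : Subgroup G).index <;> first | omega | simp_all
        · omega) with h1 | h3
      · exfalso
        obtain ⟨z, hzE, hz⟩ := exists_invol_mem (K := (E : Subgroup G))
          (by rw [even_iff_two_dvd]; show 2 ∣ Nat.card E; rw [h4]; norm_num)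
        refine hnoz z hz (Subgroup.mem_center_iff.2 fun g => ?_)
        exact (commute_of_sq hsq (Subgroup.index_eq_one.1 h1 ▸ mem_top g) hzE).eq
      · exact h3
    have h12 : Nat.card G = 12 := by
      rw [← (E : Subgroup G).card_mul_index, hidx]
      show Nat.card E * 3 = 12
      rw [h4]
    exact ⟨h12, Cfsg.Agent.S0228.result h12 hnoz⟩
  · right
    haveI := hSn
    haveI := hSs
    set P := E.subtype hES
    have hP4 : Nat.card P = 4 := by
      rw [← h4]
      exact Nat.card_congr (subgroupOfEquivOfLe hES).toEquiv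
    have hcS : Nat.card S = 60 := by rw [card_simple P (hS P), hP4]
    obtain ⟨F, fF, fFin, hF, ⟨e⟩⟩ := exists_equiv_PSL2 (hS P)
    have hF' : Fintype.card F = 2 ^ 2 := by rw [hF, hP4]; rfl
    have hmul := card_mulAut le_rfl hF' e
    have hinj : Function.Injective (MulAut.conjNormal : G →* MulAut S) := by
      rw [← MonoidHom.ker_eq_bot_iff, eq_bot_iff, ← hSc]
      intro g hg
      refine Subgroup.mem_centralizer_iff.2 fun x hx => ?_
      have := congrArg Subtype.val (DFunLike.congr_fun (MonoidHom.mem_ker.1 hg) (⟨x, hx⟩ : S))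
      simp only [MulAut.conjNormal_apply, MulAut.one_apply] at this
      exact (mul_inv_eq_iff_eq_mul.1 this).symm
    have hd := Subgroup.card_dvd_of_injective _ hinj
    rw [hmul, ← S.card_mul_index, mul_comm 2] at hd
    have h2 : S.index ∣ 2 := Nat.dvd_of_mul_dvd_mul_left Nat.card_pos hd
    have hodd : ¬ 2 ∣ S.index := fun hd => E.not_dvd_index (hd.trans (index_dvd_of_le hES))
    have hidx : S.index = 1 := by
      rcases (Nat.dvd_prime Nat.prime_two).1 h2 with h1 | h1
      · exact h1
      · exact absurd (h1 ▸ dvd_rfl) hodd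
    have htop := Subgroup.index_eq_one.1 hidx
    have h60 : Nat.card G = 60 := by rw [← S.card_mul_index, hidx, hcS]
    obtain ⟨f⟩ := Cfsg.Agent.S0252.result (F := F) (by rw [hF', ]; rfl)
    let eG : G ≃* S := Subgroup.topEquiv.symm.trans (MulEquiv.subgroupCongr htop.symm)
    refine ⟨h60, fun hsol => not_isSolvable_simple P (hS P) ?_, ⟨eG.trans (e.trans f)⟩⟩
    exact Group.isSolvable_of_surjective (f := eG.toMonoidHom) eG.surjective

end CfsgLib.DualFree
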