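import Cfsg.Agent.DualFree.OddPart
import Cfsg.Agent.Characters.FrobeniusKernel
import Cfsg.Agent.S0346

/-!
# The simple case: involution centralizers are elementary abelian
-/

set_option autoImplicit false
set_option linter.style.haveILetI false
set_option linter.unusedSectionVars false

namespace CfsgLib.DualFree

open CfsgLib.Small CfsgLib.SEmbed Subgroup
open scoped Pointwise

variable {G : Type*} [Group G] [Finite G] {Ω : Type*} [MulAction G Ω] (h : Setting G Ω)
variable (hind : ∀ H : Subgroup G, H ≠ ⊤ → HasStructure (H ⧸ Cfsg.oddCore H))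
include h hind

/-- The fixed points of an element of prime order of `D` centralising `eAt G a`. -/
theorem fix_of_prime {a b c : Ω} (hab : a ≠ b) {y : G} {p : ℕ} [Fact p.Prime]
    (hy : orderOf y = p) (hp2 : p ≠ 2) (hyD : y ∈ pairStab G a b)
    (hyC : y ∈ Subgroup.centralizer ((eAt G a : Subgroup G) : Set G))
    (hc : y • c = c) (hac : a ≠ c) : ∃ e ∈ eAt G a, e • b = c := by
  classical
  haveI : Fact (Nat.Prime 2) := ⟨Nat.prime_two⟩
  obtain ⟨hya, hyb⟩ := mem_pairStab.1 hyD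
  obtain ⟨t, ht⟩ := h.uf.exists_inv a
  have htE : t ∈ eAt G a := (mem_eAt_iff h).2 (Or.inr ht)
  have hni : ¬ Inverted G p := fun hi => h.dual p Fact.out hp2 hi
    ⟨y, t, hy, ht.1, Subgroup.mem_centralizer_iff.1 hyC t htE⟩
  obtain ⟨u, hu, huy⟩ := exists_commute_swap h hni hy hab hya hyb
  obtain ⟨v, hv, hvy⟩ := exists_commute_swap h hni hy hac hya hc
  set C := Subgroup.centralizer ({y} : Set G) with hC
  have hEC : eAt G a ≤ C := fun e he =>
    mem_centralizer_singleton_iff.2 (Subgroup.mem_centralizer_iff.1 hyC e he)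
  have huC : u ∈ C := mem_centralizer_singleton_iff.2 huy.eq.symm
  have hvC : v ∈ C := mem_centralizer_singleton_iff.2 hvy.eq.symm
  have hne : C ≠ ⊤ := by
    intro e
    have : y ∈ Subgroup.center G := Subgroup.mem_center_iff.2 fun g =>
      mem_centralizer_singleton_iff.1 (show g ∈ C by rw [e]; exact mem_top g)
    rw [center_eq_bot h, Subgroup.mem_bot] at this
    rw [this, orderOf_one] at hy
    exact (Fact.out : p.Prime).one_lt.ne hy
  set O := Cfsg.oddCore C with hO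
  have hOodd : Odd (Nat.card O) := CfsgLib.ExtremelyClosed.odd_card_oddCore' C
  set E₀ : Subgroup C := (eAt G a).subgroupOf C with hE₀
  have hE₀p : IsPGroup 2 E₀ := (eAt_isPGroup h a).of_equiv (subgroupOfEquivOfLe hEC).symm
  have htC : t ∈ C := hEC htE
  let P : Sylow 2 C := by
    refine ⟨E₀, hE₀p, fun {R} hR hle => le_antisymm (fun r hr => mem_subgroupOf.2 ?_) hle⟩
    have htR : (⟨t, htC⟩ : C) ∈ R := hle (mem_subgroupOf.2 htE)
    have hsq : ∀ s : C, s ∈ R → (s : G) * s = 1 := fun s hs => by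
      obtain ⟨k, hk⟩ := hR ⟨s, hs⟩
      exact h.two_elem _ ⟨k, by simpa using congrArg (fun z : R => ((z : C) : G)) hk⟩
    have hrt : Commute (r : G) t := by
      have h1 := inv_eq_of_mul_eq_one_right (hsq _ (mul_mem hr htR))
      rw [Subgroup.coe_mul, mul_inv_rev, inv_eq_of_mul_eq_one_right (hsq r hr),
        inv_eq_of_mul_eq_one_right (hsq ⟨t, htC⟩ htR)] at h1
      exact h1.symm
    obtain ⟨k, hk⟩ := hR ⟨r, hr⟩
    exact mem_eAt_of_two h (commute_fix h.uf ht.1 hrt ht.2)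
      ⟨k, by simpa using congrArg (fun z : R => ((z : C) : G)) hk⟩
  -- a four group at `a`
  obtain ⟨s, hsE, hs⟩ : ∃ s ∈ eAt G a, s ≠ 1 ∧ s ≠ t := by
    by_contra hno
    push Not at hno
    have h1 : ((eAt G a : Subgroup G) : Set G) ⊆ {1, t} := fun x hx => by
      by_cases hx1 : x = 1
      · exact Or.inl hx1
      · exact Or.inr (hno x hx hx1)
    have h2 := Set.ncard_le_ncard h1 (Set.toFinite _)
    rw [← Nat.card_coe_set_eq] at h2
    have h3 := (Set.ncard_insert_le (1 : G) {t}).trans (by rw [Set.ncard_singleton])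
    have h4 := h.three_le a
    have h5 : Nat.card (eAt G a) ≤ 2 := h2.trans h3
    rw [card_eAt h] at h5
    omega
  have hV : IsFour (Subgroup.closure ({s, t} : Set G)) :=
    isFour_closure_pair (orderOf_eq_two_iff_sq.2 ⟨hs.1, eAt_sq h hsE⟩) ht.1 hs.2
      (eAt_comm h hsE htE)
  have hVa : Subgroup.closure ({s, t} : Set G) ≤ eAt G a :=
    (closure_le _).2 (by rintro z (rfl | rfl) <;> assumption)
  have hOa : ∀ o ∈ O, (o : G) • a = a := by
    intro o ho
    refine le_stabilizer_of_four h.uf hV (hVa.trans (eAt_le_stabilizer h a)) (Y := O.map C.subtype)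
      (by rwa [card_map_of_injective C.subtype_injective]) ?_ ⟨o, ho, rfl⟩
    refine (hVa.trans hEC).trans ?_
    intro g hg
    rw [Subgroup.mem_normalizer_iff]
    intro z
    constructor
    · rintro ⟨z, hz, rfl⟩
      exact ⟨⟨g, hg⟩ * z * ⟨g, hg⟩⁻¹, (inferInstance : O.Normal).conj_mem z hz _, rfl⟩
    · rintro ⟨w, hw, e⟩
      refine ⟨⟨g, hg⟩⁻¹ * w * ⟨g, hg⟩, ?_, ?_⟩
      · simpa using (inferInstance : O.Normal).conj_mem w hw (⟨g, hg⟩⁻¹ : C)
      · show g⁻¹ * (w : G) * g = z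
        rw [show (w : G) = g * z * g⁻¹ from e]; group
  set Pbar := P.mapSurjective (QuotientGroup.mk'_surjective O) with hPbar
  have hkey : ∀ r : C, (r : C ⧸ O) ∈ normalizer ((Pbar : Subgroup (C ⧸ O)) : Set (C ⧸ O)) →
      (r : G) • a = a := by
    intro r hr
    obtain ⟨n, hn, hnr⟩ := CfsgLib.ExtremelyClosed.exists_normalizer_mul (O := O) hE₀p hOodd
      (y := r) (fun e he => by
        have h1 : ((r : C ⧸ O) * (e : C ⧸ O) * (r : C ⧸ O)⁻¹) ∈ (Pbar : Subgroup (C ⧸ O)) :=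
          (mem_normalizer_iff.1 hr _).1 ⟨e, he, rfl⟩
        obtain ⟨e', he', hee⟩ := h1
        have h2 : e'⁻¹ * (r * e * r⁻¹) ∈ O := by
          rw [← QuotientGroup.eq]
          exact hee
        have := mul_mem (mem_sup_left (T := O) he') (mem_sup_right (S := E₀) h2)
        rwa [mul_inv_cancel_left] at this)
    have hna : (n : G) • a = a := eAt_normalizer_fix h ht (mem_subgroupOf.1
      ((mem_normalizer_iff.1 hn (⟨t, htC⟩ : C)).1 (mem_subgroupOf.2 htE)))
    have := hOa _ hnr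
    rw [Subgroup.coe_mul, Subgroup.coe_inv, mul_smul, inv_smul_eq_iff, hna] at this
    exact this
  have hua : u • a ≠ a := by rw [hu.2]; exact hab.symm
  rcases hind C hne Pbar with hnorm | ⟨S, hSn, -, hES, -, hS⟩
  · refine absurd (hkey ⟨u, huC⟩ ?_) hua
    erw [Subgroup.normalizer_eq_top_iff.2 hnorm]
    exact mem_top _
  have hinvS : ∀ q : C ⧸ O, q * q = 1 → q ∈ S := by
    intro q hq
    have hq2 : IsPGroup 2 (Subgroup.zpowers q) := by
      rintro ⟨z, hz⟩
      obtain ⟨i, rfl⟩ := Subgroup.mem_zpowers_iff.1 hz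
      refine ⟨1, Subtype.ext ?_⟩
      show (q ^ i) ^ 2 ^ 1 = 1
      rw [pow_one, pow_two, ← (Commute.refl q).mul_zpow, hq, one_zpow]
    obtain ⟨R, hR⟩ := hq2.exists_le_sylow
    obtain ⟨g, rfl⟩ := MulAction.exists_smul_eq (C ⧸ O) Pbar R
    exact ((Subgroup.pointwise_smul_le_pointwise_smul_iff.2 hES).trans
      (Subgroup.Normal.conj_smul_eq_self g S).le) (hR (mem_zpowers q))
  set T := Pbar.subtype hES with hT
  have hmemT : ∀ q : S, q ∈ (T : Subgroup S) ↔ (q : C ⧸ O) ∈ (Pbar : Subgroup (C ⧸ O)) := fun q => by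
    rw [hT, Sylow.coe_subtype, mem_subgroupOf]
  have hnormT : ∀ q : S, q ∈ normalizer ((T : Subgroup S) : Set S) →
      (q : C ⧸ O) ∈ normalizer ((Pbar : Subgroup (C ⧸ O)) : Set (C ⧸ O)) := by
    intro q hq
    rw [mem_normalizer_iff]
    intro z
    constructor
    · intro hz
      exact (hmemT _).1 ((mem_normalizer_iff.1 hq ⟨z, hES hz⟩).1 ((hmemT ⟨z, hES hz⟩).2 hz))
    · intro hz
      have hzS : z ∈ S := by
        have := mul_mem (mul_mem (inv_mem q.2) (hES hz)) q.2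
        rwa [show (q : C ⧸ O)⁻¹ * ((q : C ⧸ O) * z * (q : C ⧸ O)⁻¹) * q = z by group] at this
      exact (hmemT ⟨z, hzS⟩).1 ((mem_normalizer_iff.1 hq ⟨z, hzS⟩).2 ((hmemT _).2 hz))
  have hsq : ∀ (g : G) (hg : g ∈ C), g * g = 1 → ((⟨g, hg⟩ : C) : C ⧸ O) ∈ S := fun g hg e =>
    hinvS _ (by rw [← QuotientGroup.mk_mul, show (⟨g, hg⟩ : C) * ⟨g, hg⟩ = 1 from Subtype.ext e,
      QuotientGroup.mk_one])
  let uS : S := ⟨_, hsq u huC (mul_self_of_orderOf_two hu.1)⟩
  let vS : S := ⟨_, hsq v hvC (mul_self_of_orderOf_two hv.1)⟩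
  have hun : base T ≠ uS • base T := fun e => hua (hkey _ (hnormT uS (smul_base_iff.1 e.symm)))
  have hvn : base T ≠ vS • base T := fun e => by
    have := hkey _ (hnormT vS (smul_base_iff.1 e.symm))
    change v • a = a at this
    exact hac (this.symm.trans hv.2)
  obtain ⟨f, hf, hfe⟩ := exists_T_smul (hS T) hun hvn
  obtain ⟨e, he, hef⟩ := (hmemT f).1 hf
  have hr : (((⟨u, huC⟩ : C)⁻¹ * e⁻¹ * ⟨v, hvC⟩ : C) : C ⧸ O) ∈
      normalizer ((Pbar : Subgroup (C ⧸ O)) : Set (C ⧸ O)) := by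
    have h1 := hnormT (uS⁻¹ * f⁻¹ * vS) (smul_base_iff.1 (by
      rw [mul_smul, mul_smul, ← hfe, inv_smul_smul, inv_smul_smul]))
    rw [Subgroup.coe_mul, Subgroup.coe_mul, Subgroup.coe_inv, Subgroup.coe_inv, ← hef] at h1
    exact h1
  have h2 := hkey _ hr
  rw [Subgroup.coe_mul, Subgroup.coe_mul, Subgroup.coe_inv, Subgroup.coe_inv, mul_smul, mul_smul,
    hv.2, inv_smul_eq_iff, hu.2, inv_smul_eq_iff] at h2
  exact ⟨(e : G), mem_subgroupOf.1 he, h2.symm⟩

/-- `D` meets the centralizer of `eAt G a` trivially. -/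
theorem eq_one_of_mem_centralizer {a b : Ω} (hab : a ≠ b) {x : G} (hx : x ∈ pairStab G a b)
    (hxC : x ∈ Subgroup.centralizer ((eAt G a : Subgroup G) : Set G)) : x = 1 := by
  classical
  obtain ⟨W, hW⟩ := exists_oddPart h a
  set C := Subgroup.centralizer ((eAt G a : Subgroup G) : Set G) with hC
  set X := pairStab G a b ⊓ W with hX
  have hDodd : ∀ {d : G}, d ∈ pairStab G a b → Odd (orderOf d) := fun hd =>
    (odd_pairStab h.uf hab).of_dvd_nat (Subgroup.orderOf_dvd_natCard _ hd)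
  have hWa : ∀ {w : G}, w ∈ W → w • a = a := fun hw =>
    centralizer_eAt_le_stabilizer h a ((hW _).1 hw).1
  have hWE : ∀ {w e : G}, w ∈ W → e ∈ eAt G a → Commute w e := fun hw he =>
    (Subgroup.mem_centralizer_iff.1 ((hW _).1 hw).1 _ he).symm
  have hWconj : ∀ {g w : G}, g • a = a → w ∈ W → g * w * g⁻¹ ∈ W := fun hg hw =>
    (hW _).2 ⟨conj_mem_centralizer_eAt h hg ((hW _).1 hw).1,
      by rw [orderOf_conj_eq]; exact ((hW _).1 hw).2⟩
  -- `X` is malnormal in `W`
  have hmal : ∀ g : W, g ∉ X.subgroupOf W → ∀ z ∈ X.subgroupOf W,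
      g * z * g⁻¹ ∈ X.subgroupOf W → z = 1 := by
    rintro ⟨g, hg⟩ hgX ⟨z, hz⟩ hzX hgz
    by_contra hz1
    have hzne : z ≠ 1 := fun e => hz1 (Subtype.ext e)
    obtain ⟨p, hp, hpd⟩ := Nat.exists_prime_and_dvd
      (fun e => hzne (orderOf_eq_one_iff.1 e))
    haveI := Fact.mk hp
    have hp2 : p ≠ 2 := fun e => ((hW _).1 hz).2.not_two_dvd_nat (e ▸ hpd)
    set j := orderOf z / p
    have hyo : orderOf (z ^ j) = p := orderOf_pow_orderOf_div (orderOf_pos z).ne' hpd
    have hyX : z ^ j ∈ X := pow_mem (mem_subgroupOf.1 hzX) j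
    have hgy : g * z ^ j * g⁻¹ ∈ X := conj_pow (a := g) (b := z) ▸ pow_mem (mem_subgroupOf.1 hgz) j
    have hfix : (z ^ j) • (g⁻¹ • b) = g⁻¹ • b := by
      have h1 := (mem_pairStab.1 hgy.1).2
      rw [mul_smul, mul_smul, ← eq_inv_smul_iff] at h1
      exact h1
    have hne : a ≠ g⁻¹ • b := fun e => hab (by
      have h1 := hWa hg
      rw [e, smul_inv_smul] at h1
      exact e.trans h1.symm)
    obtain ⟨e, he, heb⟩ := fix_of_prime h hind hab hyo hp2 hyX.1 ((hW _).1 hyX.2).1 hfix hne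
    have hge : g * e ∈ pairStab G a b := mem_pairStab.2
      ⟨by rw [mul_smul, eAt_smul h he, hWa hg], by rw [mul_smul, heb, smul_inv_smul]⟩
    have h2 : g ^ 2 ∈ pairStab G a b := by
      have := mul_mem hge hge
      rw [show g * e * (g * e) = g * (e * g) * e by group, ← (hWE hg he).eq] at this
      rwa [show g * (g * e) * e = g * g * (e * e) by group, eAt_sq h he, mul_one,
        ← pow_two] at this
    refine hgX (mem_subgroupOf.2 ⟨?_, hg⟩)
    exact zpowers_le.2 h2 (mem_zpowers_pow_iff.2 (Nat.coprime_two_left.2 ((hW _).1 hg).2))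
  obtain ⟨N, hN, hcompl, hNmem⟩ := Characters.exists_frobenius_kernel _ hmal
  set N' := N.map W.subtype with hN'
  have hN'W : N' ≤ W := map_subtype_le _
  -- `N'` is normal in the point stabilizer
  have hcentX : ∀ k ∈ core G a b, ∀ z ∈ X, Commute k z := fun k hk z hz =>
    commute_core h hind hab hk hz.1 ((hW _).1 hz.2).1
  have hNk : ∀ k ∈ core G a b, ∀ n ∈ N', k * n * k⁻¹ ∈ N' := by
    rintro k hk _ ⟨n, hn, rfl⟩
    have hka := (mem_pairStab.1 (core_le h a b hk)).1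
    refine ⟨⟨k * n * k⁻¹, hWconj hka n.2⟩, (hNmem _).2 fun y hy => ?_, rfl⟩
    set y' : W := ⟨k⁻¹ * y * k, by simpa using hWconj (inv_smul_eq_iff.2 hka.symm) y.2⟩
    have hmem : y'⁻¹ * n * y' ∈ X.subgroupOf W := by
      rw [mem_subgroupOf] at hy ⊢
      have h1 : ((y'⁻¹ * n * y' : W) : G) = k⁻¹ * ((y : G)⁻¹ * (k * n * k⁻¹) * y) * k := by
        simp only [Subgroup.coe_mul, Subgroup.coe_inv, y']
        group
      rw [h1]
      have h2 : ((y : G)⁻¹ * (k * n * k⁻¹) * y) ∈ X := hy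
      rw [mul_assoc, ← (hcentX k hk _ h2).eq, inv_mul_cancel_left]
      exact h2
    have hn1 := (hNmem n).1 hn y' hmem
    refine Subtype.ext ?_
    show k * (n : G) * k⁻¹ = 1
    rw [hn1]; simp
  have hNW : ∀ w ∈ W, ∀ n ∈ N', w * n * w⁻¹ ∈ N' := by
    rintro w hw _ ⟨n, hn, rfl⟩
    exact ⟨_, hN.conj_mem n hn ⟨w, hw⟩, rfl⟩
  have hcore : ∀ {k : G}, k ∈ core G a b → k • a = a := fun hk =>
    (mem_pairStab.1 (core_le h a b hk)).1
  -- the normal subgroup `E N' K` of the point stabilizer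
  let L : Subgroup G :=
    { carrier := {g | ∃ e ∈ eAt G a, ∃ n ∈ N', ∃ k ∈ core G a b, g = e * n * k}
      one_mem' := ⟨1, one_mem _, 1, one_mem _, 1, one_mem _, by simp⟩
      mul_mem' := by
        rintro _ _ ⟨e, he, n, hn, k, hk, rfl⟩ ⟨e', he', n', hn', k', hk', rfl⟩
        refine ⟨e * (k * e' * k⁻¹), mul_mem he (conj_mem_eAt h (hcore hk) he'),
          n * (k * n' * k⁻¹), mul_mem hn (hNk k hk n' hn'), k * k', mul_mem hk hk', ?_⟩
        calc e * n * k * (e' * n' * k') = e * (n * (k * e' * k⁻¹)) * (k * n' * k⁻¹) * (k * k') := by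
              group
          _ = _ := by rw [(hWE (hN'W hn) (conj_mem_eAt h (hcore hk) he')).eq]; group
      inv_mem' := by
        rintro _ ⟨e, he, n, hn, k, hk, rfl⟩
        refine ⟨k⁻¹ * e⁻¹ * k⁻¹⁻¹, conj_mem_eAt h (hcore (inv_mem hk)) (inv_mem he),
          k⁻¹ * n⁻¹ * k⁻¹⁻¹, hNk _ (inv_mem hk) _ (inv_mem hn), k⁻¹, inv_mem hk, ?_⟩
        calc (e * n * k)⁻¹ = k⁻¹ * (n⁻¹ * e⁻¹) := by group
          _ = k⁻¹ * (e⁻¹ * n⁻¹) := by rw [(hWE (hN'W hn) he).inv_inv.eq]
          _ = _ := by group }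
  have hLa : ∀ {g : G}, g ∈ L → g • a = a := by
    rintro _ ⟨e, he, n, hn, k, hk, rfl⟩
    rw [mul_smul, mul_smul, hcore hk, hWa (hN'W hn), eAt_smul h he]
  have hLX : ∀ g ∈ L, g ∈ X → g = 1 := by
    rintro _ ⟨e, he, n, hn, k, hk, rfl⟩ hgX
    have hkC : k ∈ C := by
      have := mul_mem (inv_mem (mul_mem (eAt_le_centralizer h a he) ((hW _).1 (hN'W hn)).1))
        ((hW _).1 hgX.2).1
      rwa [inv_mul_cancel_left] at this
    obtain ⟨t, ht⟩ := h.uf.exists_inv a
    have hk1 : k = 1 := core_eq_one h hab hk (t := t) ht.1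
      (Subgroup.mem_centralizer_iff.1 hkC t ((mem_eAt_iff h).2 (Or.inr ht))).symm
    rw [hk1, mul_one] at hgX ⊢
    have heW : e ∈ W := by
      have hen : e * n ∈ W := hgX.2
      have := mul_mem hen (inv_mem (hN'W hn))
      rwa [mul_inv_cancel_right] at this
    have he1 : e = 1 := by
      by_contra hne
      have := ((hW _).1 heW).2
      rw [orderOf_eq_two_iff_sq.2 ⟨hne, eAt_sq h he⟩] at this
      exact absurd this (by decide)
    rw [he1, one_mul] at hgX ⊢
    obtain ⟨n', hn', rfl⟩ := hn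
    have := (hNmem n').1 hn' 1 (by simpa [mem_subgroupOf] using hgX)
    rw [this]; rfl
  have hdecomp : ∀ {g : G}, g • a = a → ∃ l ∈ L, ∃ z ∈ X, g = z * l := by
    intro g hg
    obtain ⟨k, hk, c, hc, rfl⟩ := exists_core_decomp' h hind hab hg
    obtain ⟨e, he, w, hw, hwo, rfl⟩ := exists_eAt_mul h hc
    obtain ⟨⟨n, z⟩, hnz⟩ := hcompl.2 ⟨w, (hW _).2 ⟨hw, hwo⟩⟩
    have hnz' : w = (n : W) * (z : W) := by
      rw [← Subgroup.coe_mul]; exact congrArg Subtype.val hnz.symm
    have hzX : ((z : W) : G) ∈ X := mem_subgroupOf.1 z.2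
    refine ⟨((z : W) : G)⁻¹ * (k * (e * w)), ?_, _, hzX, by rw [mul_inv_cancel_left]⟩
    -- `z⁻¹ k e n z = k e (z⁻¹ n z)`
    have h1 : ((z : W) : G)⁻¹ * ((n : W) : G) * (z : W) ∈ N' := by
      simpa using hNW _ (inv_mem (z : W).2) _ ⟨(n : W), n.2, rfl⟩
    have h2 : ((z : W) : G)⁻¹ * (k * (e * w)) =
        k * e * (((z : W) : G)⁻¹ * ((n : W) : G) * (z : W)) := by
      rw [hnz', ← mul_assoc, ← (hcentX k hk _ hzX).inv_right.eq,
        mul_assoc k, ← mul_assoc _ e, (hWE (z : W).2 he).inv_left.eq]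
      group
    rw [h2]
    exact mul_mem (mul_mem ⟨1, one_mem _, 1, one_mem _, k, hk, by simp⟩
      ⟨e, he, 1, one_mem _, 1, one_mem _, by simp⟩) ⟨1, one_mem _, _, h1, 1, one_mem _, by simp⟩
  have hLnorm : ∀ z ∈ X, ∀ l ∈ L, z * l * z⁻¹ ∈ L := by
    rintro z hz _ ⟨e, he, n, hn, k, hk, rfl⟩
    refine ⟨e, he, z * n * z⁻¹, hNW z hz.2 n hn, k, hk, ?_⟩
    calc z * (e * n * k) * z⁻¹ = (z * e * z⁻¹) * (z * n * z⁻¹) * (z * k * z⁻¹) := by group
      _ = _ := by
        rw [mul_inv_eq_iff_eq_mul.2 (hWE hz.2 he).eq, mul_inv_eq_iff_eq_mul.2 (hcentX k hk z hz).eq.symm]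
  set M := MulAction.stabilizer G a with hM
  haveI hLn : (L.subgroupOf M).Normal := ⟨fun l hl g => by
    rw [mem_subgroupOf] at hl ⊢
    obtain ⟨l', hl', z, hz, e⟩ := hdecomp g.2
    rw [Subgroup.coe_mul, Subgroup.coe_mul, Subgroup.coe_inv, e,
      show z * l' * (l : G) * (z * l')⁻¹ = z * (l' * l * l'⁻¹) * z⁻¹ by group]
    exact hLnorm z hz _ (mul_mem (mul_mem hl' hl) (inv_mem hl'))⟩
  haveI : Group.IsSolvable M := isSolvable_stabilizer h a
  by_contra hx1
  haveI : Nontrivial (M ⧸ L.subgroupOf M) :=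
    ⟨⟨(⟨x, (mem_pairStab.1 hx).1⟩ : M), 1, fun e => hx1 (hLX x
      (mem_subgroupOf.1 ((QuotientGroup.eq_one_iff _).1 e)) ⟨hx, (hW x).2 ⟨hxC, hDodd hx⟩⟩)⟩⟩
  haveI : Group.IsSolvable (M ⧸ L.subgroupOf M) :=
    Group.isSolvable_of_surjective (QuotientGroup.mk'_surjective _)
  let ψ : M →* Abelianization (M ⧸ L.subgroupOf M) :=
    Abelianization.of.comp (QuotientGroup.mk' (L.subgroupOf M))
  have hψL : ∀ g : M, (g : G) ∈ L → ψ g = 1 := fun g hg => by
    show Abelianization.of (QuotientGroup.mk' _ g) = 1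
    rw [QuotientGroup.mk'_apply, (QuotientGroup.eq_one_iff g).2 (mem_subgroupOf.2 hg), map_one]
  have hall : ∀ g : M, ψ g = 1 := by
    intro g
    obtain ⟨l, hl, z, hz, e⟩ := hdecomp g.2
    have hza : z • a = a := (mem_pairStab.1 hz.1).1
    have hg : g = (⟨z, hza⟩ : M) * ⟨l, hLa hl⟩ := Subtype.ext e
    rw [hg, map_mul, hψL ⟨l, hLa hl⟩ hl, mul_one]
    refine map_eq_one h hind hab ψ (fun k hk => hψL k
      ⟨1, one_mem _, 1, one_mem _, k, hk, by simp⟩) _ fun r hr hd => ?_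
    rw [← Subgroup.orderOf_coe] at hd
    have hr2 : r ≠ 2 := fun e' => ((hW _).1 hz.2).2.not_two_dvd_nat (e' ▸ hd)
    obtain ⟨u, hu⟩ := exists_swap h hab
    exact ⟨hr2, fun hi => h.dual r hr hr2 hi (centralised_of_dvd hu.1
      (commute_swap h hind hab hu hz.1 ((hW _).1 hz.2).1).symm hd)⟩
  refine absurd ?_ (Group.IsSolvable.commutator_lt_top_of_nontrivial
    (G := M ⧸ L.subgroupOf M)).ne
  rw [← Abelianization.ker_of, eq_top_iff]
  intro q _
  obtain ⟨g, rfl⟩ := QuotientGroup.mk_surjective q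
  exact hall g

/-- The two point stabilizer is `core a b`. -/
theorem pairStab_eq_core {a b : Ω} (hab : a ≠ b) : pairStab G a b = core G a b := by
  refine le_antisymm (fun d hd => ?_) (core_le h a b)
  obtain ⟨u, hu⟩ := exists_swap h hab
  obtain ⟨k, hk, x, hx, hxu, rfl⟩ := exists_core_mul h hab hu hd
  rw [eq_one_of_mem_centralizer h hind hab hx
    (mem_centralizer_eAt_of_commute h hind hab hu hx hxu), mul_one]
  exact hk

/-- **The simple case**: the centralizer of an involution at `a` is `eAt G a`. -/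
theorem centralizer_eq_eAt {a : Ω} {t : G} (ht : t ∈ invMap (G := G) a a) :
    Subgroup.centralizer ({t} : Set G) = eAt G a := by
  classical
  haveI := finite_points h.uf
  haveI := Fintype.ofFinite Ω
  haveI := h.nontriv
  haveI := h.simple
  haveI : Fact (Nat.Prime 2) := ⟨Nat.prime_two⟩
  obtain ⟨b, hb⟩ := exists_ne a
  have hab := hb.symm
  have hZ : Cfsg.IsZassenhausGroup G Ω := by
    refine ⟨⟨fun {g g'} e => inv_mul_eq_one.1 (faithful h fun x => by
      rw [mul_smul, ← e x, inv_smul_smul])⟩, ?_, ?_, ?_, ?_⟩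
    · rw [MulAction.is_two_pretransitive_iff]
      intro x₁ x₂ y₁ y₂ hx hy
      obtain ⟨g, hg⟩ := h.uf.transitive x₁ y₁
      obtain ⟨f, hfa, hfb⟩ := exists_stab_smul h (a := y₁) (b := g • x₂) (c := y₂)
        (fun e => hx (smul_left_cancel g (hg.trans e))) hy
      exact ⟨f * g, by rw [mul_smul, hg, hfa], by rw [mul_smul, hfb]⟩
    · intro g x y z hxy hyz hxz gx gy gz
      by_contra hne
      have hgc : g ∈ core G x y := pairStab_eq_core h hind hxy ▸ mem_pairStab.2 ⟨gx, gy⟩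
      rcases fix_core h hxy hgc hne gz with e | e
      exacts [hxz e.symm, hyz e.symm]
    · obtain ⟨k, hk, hk1⟩ : ∃ k ∈ core G a b, k ≠ 1 := by
        by_contra hno
        push Not at hno
        have := card_core h hab
        rw [Subgroup.card_eq_one.2 ((eq_bot_iff_forall _).2 hno)] at this
        have := h.three_le a
        omega
      exact ⟨k, hk1, a, b, hab, mem_pairStab.1 (core_le h a b hk)⟩
    · intro N hN htr
      refine ⟨a, fun hbot => ne_one_of_orderOf_two ht.1 ?_⟩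
      rcases IsSimpleGroup.eq_bot_or_eq_top_of_normal N hN with hN' | hN'
      · exfalso
        obtain ⟨⟨n, hn⟩, e⟩ := htr.exists_smul_eq a b
        rw [hN', Subgroup.mem_bot] at hn
        subst hn
        exact hab ((one_smul G a).symm.trans e)
      · have h1 : (⟨t, hN' ▸ mem_top t⟩ : N) ∈ MulAction.stabilizer N a := ht.2
        rw [hbot, Subgroup.mem_bot] at h1
        exact congrArg Subtype.val h1
  have hpp := Cfsg.Agent.S0346.result hZ
  set C := Subgroup.centralizer ((eAt G a : Subgroup G) : Set G) with hC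
  have hbij : Function.Bijective (fun o : Option C => o.elim a fun c => (c : G) • b) := by
    have hne : ∀ c : C, a ≠ (c : G) • b := fun c e => hab (smul_left_cancel (c : G)
      ((centralizer_eAt_le_stabilizer h a c.2).trans e))
    refine ⟨?_, ?_⟩
    · rintro (_ | c) (_ | d) e <;> simp only [Option.elim] at e
      · rfl
      · exact absurd e (hne d)
      · exact absurd e.symm (hne c)
      · refine congrArg some (Subtype.ext (inv_mul_eq_one.1 (eq_one_of_mem_centralizer h hind hab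
          (mem_pairStab.2 ⟨?_, ?_⟩) (mul_mem (inv_mem c.2) d.2))))
        · exact centralizer_eAt_le_stabilizer h a (mul_mem (inv_mem c.2) d.2)
        · rw [mul_smul, ← e, inv_smul_smul]
    · intro z
      by_cases hz : a = z
      · exact ⟨none, hz⟩
      · obtain ⟨c, hc, e⟩ := exists_centralizer_smul h hind hab hz
        exact ⟨some ⟨c, hc⟩, e⟩
  have hcard : Fintype.card Ω - 1 = Nat.card C := by
    rw [← Nat.card_eq_fintype_card, ← Nat.card_eq_of_bijective _ hbij, Finite.card_option,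
      Nat.add_sub_cancel]
  rw [hcard] at hpp
  obtain ⟨p, k, hp, hk, hpk⟩ := hpp
  have hEC := eAt_le_centralizer h a
  have h2 : 2 ∣ p ^ k := by
    rw [hpk]
    refine dvd_trans ?_ (card_dvd_of_le hEC)
    rw [card_eAt h]
    obtain ⟨i, hi⟩ := odd_card_invMap h a
    exact ⟨i + 1, by omega⟩
  obtain rfl : 2 = p :=
    (Nat.prime_dvd_prime_iff_eq Nat.prime_two hp.nat_prime).1 (Nat.prime_two.dvd_of_dvd_pow h2)
  rw [centralizer_eq_centralizer_eAt h hind ht]
  refine le_antisymm (fun c hc => ?_) hEC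
  exact mem_eAt_of_two h (centralizer_eAt_le_stabilizer h a hc)
    ⟨k, by rw [hpk]; exact congrArg Subtype.val (pow_card_eq_one' (x := (⟨c, hc⟩ : C)))⟩

end CfsgLib.DualFree
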