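import Cfsg.Agent.DualFree.Basic
import Cfsg.Agent.SEmbed.Abelian
import Cfsg.Agent.PLocal.Cores

/-!
# The conclusion of the structure theorem
-/

set_option autoImplicit false
set_option linter.style.haveILetI false
set_option linter.unusedSectionVars false

namespace CfsgLib.DualFree

open CfsgLib.SEmbed

/-- Every 2-element has order at most two. -/
def TwoElementary (G : Type*) [Group G] : Prop := ∀ g : G, (∃ k : ℕ, g ^ 2 ^ k = 1) → g * g = 1

/-- A Sylow 2-subgroup is normal or lies in a simple normal subgroup with trivial centralizer and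
elementary abelian involution centralizers. -/
def HasStructure (G : Type*) [Group G] : Prop :=
  ∀ E : Sylow 2 G, (E : Subgroup G).Normal ∨
    ∃ S : Subgroup G, S.Normal ∧ IsSimpleGroup S ∧ (E : Subgroup G) ≤ S ∧
      Subgroup.centralizer (S : Set G) = ⊥ ∧ ∀ P : Sylow 2 S, ElemCentralizers P

variable {G : Type*} [Group G]

theorem TwoElementary.subgroup (h : TwoElementary G) (H : Subgroup G) : TwoElementary H := by
  rintro ⟨g, hg⟩ ⟨k, hk⟩
  exact Subtype.ext (h g ⟨k, by simpa using congrArg Subtype.val hk⟩)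

theorem TwoElementary.quotient [Finite G] (h : TwoElementary G) {N : Subgroup G} [N.Normal]
    (hN : Odd (Nat.card N)) : TwoElementary (G ⧸ N) := by
  rintro q ⟨k, hk⟩
  obtain ⟨g, rfl⟩ := QuotientGroup.mk_surjective q
  have h1 : g ^ 2 ^ k ∈ N := by rwa [← QuotientGroup.eq_one_iff, QuotientGroup.mk_pow]
  have h2 : (g ^ Nat.card N) ^ 2 ^ k = 1 := by
    rw [← pow_mul, mul_comm, pow_mul]
    exact congrArg Subtype.val (pow_card_eq_one' (x := (⟨g ^ 2 ^ k, h1⟩ : N)))
  have h3 := congrArg (QuotientGroup.mk : G → G ⧸ N) (h _ ⟨k, h2⟩)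
  simp only [QuotientGroup.mk_mul, QuotientGroup.mk_pow, QuotientGroup.mk_one] at h3
  rw [← (Commute.refl _).mul_pow] at h3
  have h4 : ((g : G ⧸ N) * g) ^ 2 ^ k = 1 := by
    rw [(Commute.refl _).mul_pow, hk, one_mul]
  refine orderOf_eq_one_iff.1 (Nat.eq_one_of_dvd_coprimes ?_ (orderOf_dvd_of_pow_eq_one h3)
    (orderOf_dvd_of_pow_eq_one h4))
  exact (Nat.coprime_two_right.2 hN).pow_right k

end CfsgLib.DualFree
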