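import Cfsg.Agent.DualFree.Basic
import Cfsg.Agent.SEmbed.ProjectiveLine
import Cfsg.Agent.SEmbed.Elementary
import Cfsg.Agent.InvCentAbelian.OrbitCount

/-!
# With elementary abelian involution centralizers every odd prime divisor is inverted
-/

set_option autoImplicit false
set_option linter.style.haveILetI false
set_option linter.unusedSectionVars false

namespace CfsgLib.DualFree

open CfsgLib.Small CfsgLib.SEmbed Subgroup

variable {G : Type*} [Group G] [Finite G] {T : Sylow 2 G} (h : ElemCentralizers T)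
include h

local notation "Ω" => G ⧸ normalizer ((T : Subgroup G) : Set G)

theorem card_normalizer_sylow :
    Nat.card (normalizer ((T : Subgroup G) : Set G)) = (Nat.card T - 1) * Nat.card T := by
  obtain ⟨t, htT, ht⟩ := exists_invol h
  haveI := nontrivial_cosets (stronglyEmbedded h)
  obtain ⟨y, hy⟩ := exists_ne (base T)
  have hmem := (mem_invMap_base h).2 ⟨htT, ne_one_of_orderOf_two ht⟩
  have key := InvCentAbelian.card_eq_mul_of_transitive (normalizer ((T : Subgroup G) : Set G))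
    hmem (fun g hg => conj_mem_invMap (smul_base_iff.2 hg) hmem) fun s hs => by
      obtain ⟨d, hd, e⟩ := exists_conj_fix (uf h) hy.symm hmem hs
      exact ⟨d, mem_normalizer_of_mem_pairStab hd, e⟩
  rw [card_invMap_base h, centralizer_eq h htT ht, inf_eq_right.2 le_normalizer] at key
  exact key

theorem inverted_of_prime_dvd {r : ℕ} (hr : r.Prime) (hr2 : r ≠ 2) (hd : r ∣ Nat.card G) :
    Inverted G r := by
  haveI := Fact.mk hr
  haveI : Fact (Nat.Prime 2) := ⟨Nat.prime_two⟩
  haveI := nontrivial_cosets (stronglyEmbedded h)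
  obtain ⟨y₀, hy₀⟩ := exists_ne (base T)
  obtain ⟨i₀, hi₀⟩ : ∃ i : G, i ∈ invMap (G := G) (base T) y₀ := by
    obtain ⟨s, hs, hsx⟩ := (uf h).exists_inv (base T)
    obtain ⟨t, ht, hty⟩ := (uf h).exists_inv y₀
    obtain ⟨i, hi, -⟩ := exists_interchange (uf h) hs ht hsx hty hy₀.symm
    exact ⟨i, hi⟩
  by_cases hm : r ∣ Nat.card T - 1
  · rw [← card_pairStab h hy₀.symm] at hm
    obtain ⟨d, hd'⟩ := exists_prime_orderOf_dvd_card' (G := pairStab G (base T) y₀) r hm
    exact ⟨d, i₀, by rw [Subgroup.orderOf_coe, hd'], hi₀.1,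
      interchange_inverts h hy₀.symm hi₀ d.2⟩
  have hrT : ¬ r ∣ Nat.card T := fun e => by
    obtain ⟨k, hk⟩ := IsPGroup.iff_card.1 T.isPGroup'
    rw [hk] at e
    exact hr2 ((Nat.prime_dvd_prime_iff_eq hr Nat.prime_two).1 (hr.dvd_of_dvd_pow e))
  have hN : ¬ r ∣ Nat.card (normalizer ((T : Subgroup G) : Set G)) := by
    rw [card_normalizer_sylow h, hr.dvd_mul]
    exact not_or.2 ⟨hm, hrT⟩
  obtain ⟨z, hz⟩ := exists_prime_orderOf_dvd_card' (G := G) r hd
  have hzfix : ∀ v : Ω, z • v ≠ v := by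
    intro v hv
    obtain ⟨g, rfl⟩ := QuotientGroup.mk_surjective v
    rw [smul_mk_eq_iff] at hv
    refine hN ?_
    rw [← hz, show orderOf z = orderOf (g⁻¹ * z * g) by
      rw [← orderOf_conj_eq g⁻¹ z, inv_inv]]
    exact Subgroup.orderOf_dvd_natCard _ hv
  have hz2 : ∀ v : Ω, z • z • v ≠ v := by
    intro v hv
    rw [smul_smul, ← pow_two] at hv
    obtain ⟨k, hk⟩ := hr.odd_of_ne_two hr2
    refine hzfix v ?_
    have h1 : ∀ j : ℕ, (z ^ 2) ^ j • v = v := by
      intro j
      induction j with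
      | zero => simp
      | succ j ih => rw [pow_succ, mul_smul, hv, ih]
    have h2 : z = ((z ^ 2) ^ (k + 1)) := by
      rw [← pow_mul, show 2 * (k + 1) = orderOf z + 1 by rw [hz, hk]; ring, pow_succ,
        pow_orderOf_eq_one, one_mul]
    rw [h2]
    exact h1 _
  set x := base T with hx
  set y := z • x with hy
  set w := z • y with hw
  set p := z⁻¹ • x with hp
  have hxy : x ≠ y := (hzfix x).symm
  have hxp : x ≠ p := fun e => hzfix x (inv_smul_eq_iff.1 e.symm).symm
  have hyp : y ≠ p := fun e => hz2 p (by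
    rw [hp, smul_inv_smul, ← hy, e])
  have hyw : y ≠ w := (hzfix y).symm
  have hxw : x ≠ w := (hz2 x).symm
  obtain ⟨s, hsx, hsy, hsp⟩ := exists_smul_triple h x y p y x w hxy hxp hyp hxy.symm hyw hxw
  obtain ⟨i, hi⟩ : ∃ i : G, i ∈ invMap (G := G) x y := by
    obtain ⟨a, ha, hax⟩ := (uf h).exists_inv x
    obtain ⟨b, hb, hby⟩ := (uf h).exists_inv y
    obtain ⟨i, hi, -⟩ := exists_interchange (uf h) ha hb hax hby hxy
    exact ⟨i, hi⟩
  have hd' : i * s ∈ pairStab G x y := mem_pairStab.2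
    ⟨by rw [mul_smul, hsx, smul_back hi.1 hi.2], by rw [mul_smul, hsy, hi.2]⟩
  have hss : s * s = 1 := by
    have e := interchange_inverts h hxy hi hd'
    rw [inv_eq_self_of_orderOf_two hi.1, mul_inv_rev, inv_eq_self_of_orderOf_two hi.1, ← mul_assoc,
      mul_self_of_orderOf_two hi.1, one_mul] at e
    -- `e : s * i = s⁻¹ * i`
    have e' : s = s⁻¹ := mul_right_cancel e
    nth_rw 2 [e']
    exact mul_inv_cancel s
  have hs1 : s ≠ 1 := fun e => hxy (by rw [← hsx, e, one_smul])
  have hs2 : orderOf s = 2 := orderOf_eq_two_iff_sq.2 ⟨hs1, hss⟩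
  have key : s * z * (s * z) = 1 := by
    have hzp : z • p = x := smul_inv_smul z x
    have hsw : s • w = p := smul_back hs2 hsp
    have e1 : (s * z) • x = x := by rw [mul_smul, ← hy, hsy]
    have e2 : (s * z) • p = y := by rw [mul_smul, hzp, hsx]
    have e3 : (s * z) • y = p := by rw [mul_smul, ← hw, hsw]
    exact eq_one_of_fix_triple h _ x y p hxy hxp hyp (by rw [mul_smul, e1, e1])
      (by rw [mul_smul, e3, e2]) (by rw [mul_smul, e2, e3])
  refine ⟨z, s, hz, hs2, ?_⟩
  rw [inv_eq_self_of_orderOf_two hs2, eq_inv_iff_mul_eq_one, mul_assoc, key]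

end CfsgLib.DualFree
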