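import Cfsg.Agent.DualFree.Setting
import Cfsg.Agent.DualFree.RealPrimes
import Cfsg.Agent.DualFree.Outcome

/-!
# The simple case: primes centralised by involutions do not divide the number of points
-/

set_option autoImplicit false
set_option linter.style.haveILetI false
set_option linter.unusedSectionVars false

namespace CfsgLib.DualFree

open CfsgLib.Small CfsgLib.SEmbed Subgroup
open scoped Pointwise

variable {G : Type*} [Group G] [Finite G] {Ω : Type*} [MulAction G Ω] (h : Setting G Ω)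

/-- A `p`-element fixes a member of an invariant set of size prime to `p`. -/
theorem exists_commute_of_not_dvd {p : ℕ} [Fact p.Prime] {X : Set G} (hp : ¬ p ∣ Nat.card X)
    {y : G} (hy : orderOf y = p) (hX : ∀ g ∈ Subgroup.zpowers y, ∀ s ∈ X, g * s * g⁻¹ ∈ X) :
    ∃ s ∈ X, Commute y s := by
  letI : MulAction (Subgroup.zpowers y) X := {
    smul := fun g s => ⟨(g : G) * s.1 * (g : G)⁻¹, hX g g.2 s s.2⟩
    one_smul := fun s => Subtype.ext (by show (1 : G) * s.1 * (1 : G)⁻¹ = s.1; group)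
    mul_smul := fun g k s => Subtype.ext (by
      show ((g * k : Subgroup.zpowers y) : G) * s.1 * ((g * k : Subgroup.zpowers y) : G)⁻¹ =
        (g : G) * ((k : G) * s.1 * (k : G)⁻¹) * (g : G)⁻¹
      rw [Subgroup.coe_mul]; group) }
  have hP : IsPGroup p (Subgroup.zpowers y) :=
    IsPGroup.of_card (n := 1) (by rw [Nat.card_zpowers, hy, pow_one])
  obtain ⟨⟨s, hs⟩, hfix⟩ := hP.nonempty_fixed_point_of_prime_not_dvd_card X hp
  exact ⟨s, hs, mul_inv_eq_iff_eq_mul.1
    (congrArg Subtype.val (hfix ⟨y, mem_zpowers y⟩))⟩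

include h

theorem exists_commute_fix {p : ℕ} [Fact p.Prime] (hni : ¬ Inverted G p) {y : G}
    (hy : orderOf y = p) {a : Ω} (ha : y • a = a) :
    ∃ t ∈ invMap (G := G) a a, Commute y t := by
  haveI := h.nontriv
  obtain ⟨b, hb⟩ := exists_ne a
  refine exists_commute_of_not_dvd (fun e => hni (card_invMap_inverted h hb.symm Fact.out e)) hy
    fun g hg s hs => conj_mem_invMap (MulAction.mem_stabilizer_iff.2 ?_) hs
  exact (zpowers_le.2 (show y ∈ MulAction.stabilizer G a from ha)) hg

theorem exists_commute_swap {p : ℕ} [Fact p.Prime] (hni : ¬ Inverted G p) {y : G}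
    (hy : orderOf y = p) {a b : Ω} (hab : a ≠ b) (ha : y • a = a) (hb : y • b = b) :
    ∃ u ∈ invMap (G := G) a b, Commute y u := by
  refine exists_commute_of_not_dvd (fun e => hni (card_invMap_inverted h hab Fact.out
    (card_invMap_eq h.uf hab ▸ e))) hy fun g hg s hs => conj_mem_invMap_pair ?_ hs
  exact (zpowers_le.2 (show y ∈ pairStab G a b from mem_pairStab.2 ⟨ha, hb⟩)) hg

theorem eAt_normalizer_fix {a : Ω} {t g : G} (ht : t ∈ invMap (G := G) a a)
    (hg : g * t * g⁻¹ ∈ eAt G a) : g • a = a := by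
  rcases (mem_eAt_iff h).1 hg with e | hs
  · exact absurd (by rwa [mul_inv_eq_one, mul_eq_left] at e) (ne_one_of_orderOf_two ht.1)
  · exact h.uf.unique _ hs.1 _ _ (by rw [smul_smul, inv_mul_cancel_right, mul_smul, ht.2]) hs.2

variable (hind : ∀ H : Subgroup G, H ≠ ⊤ → HasStructure (H ⧸ Cfsg.oddCore H))
include hind

/-- A `p`-group centralising an element of order `p` which fixes a point fixes a point, for a prime
which is not inverted. -/
theorem exists_fix_of_centralizes {p : ℕ} [Fact p.Prime] (hp2 : p ≠ 2) (hni : ¬ Inverted G p)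
    {y : G} (hy : orderOf y = p) {a : Ω} (ha : y • a = a) {Q : Subgroup G} (hQ : IsPGroup p Q)
    (hQy : Q ≤ Subgroup.centralizer ({y} : Set G)) : ∃ z : Ω, ∀ g ∈ Q, g • z = z := by
  classical
  haveI : Fact (Nat.Prime 2) := ⟨Nat.prime_two⟩
  haveI := finite_points h.uf
  set C := Subgroup.centralizer ({y} : Set G) with hC
  by_cases hsingle : ∀ z, y • z = z → z = a
  · refine ⟨a, fun g hg => hsingle _ ?_⟩
    rw [smul_smul, ← mem_centralizer_singleton_iff.1 (hQy hg), mul_smul, ha]
  push Not at hsingle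
  obtain ⟨b, hb, hba⟩ := hsingle
  obtain ⟨t, ht, hty⟩ := exists_commute_fix h hni hy ha
  obtain ⟨u, hu, huy⟩ := exists_commute_swap h hni hy hba.symm ha hb
  have htC : t ∈ C := mem_centralizer_singleton_iff.2 hty.eq.symm
  have hne : C ≠ ⊤ := by
    intro e
    have : y ∈ Subgroup.center G := Subgroup.mem_center_iff.2 fun g =>
      mem_centralizer_singleton_iff.1 (show g ∈ C by rw [e]; exact mem_top g)
    rw [center_eq_bot h, Subgroup.mem_bot] at this
    rw [this, orderOf_one] at hy
    exact (Fact.out : p.Prime).one_lt.ne hy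
  set O := Cfsg.oddCore C with hO
  have hOodd : Odd (Nat.card O) := CfsgLib.ExtremelyClosed.odd_card_oddCore' C
  set E₀ : Subgroup C := (eAt G a).subgroupOf C with hE₀
  have hE₀p : IsPGroup 2 E₀ := fun g => ⟨1, Subtype.ext (Subtype.ext (by
    rw [pow_one]
    simpa [pow_two] using eAt_sq h (mem_subgroupOf.1 g.2)))⟩
  -- `E₀` is a Sylow subgroup
  let P : Sylow 2 C := by
    refine ⟨E₀, hE₀p, fun {R} hR hle => le_antisymm (fun r hr => mem_subgroupOf.2 ?_) hle⟩
    have htR : (⟨t, htC⟩ : C) ∈ R := hle (mem_subgroupOf.2 (Subgroup.subset_closure ht))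
    have hsq : ∀ s : C, s ∈ R → (s : G) * s = 1 := fun s hs => by
      obtain ⟨k, hk⟩ := hR ⟨s, hs⟩
      exact h.two_elem _ ⟨k, by simpa using congrArg (fun z : R => ((z : C) : G)) hk⟩
    have hrt : Commute (r : G) t := by
      have h1 := inv_eq_of_mul_eq_one_right (hsq _ (mul_mem hr htR))
      rw [Subgroup.coe_mul, mul_inv_rev, inv_eq_of_mul_eq_one_right (hsq r hr),
        inv_eq_of_mul_eq_one_right (hsq ⟨t, htC⟩ htR)] at h1
      exact h1.symm
    obtain ⟨k, hk⟩ := hR ⟨r, hr⟩
    exact mem_eAt_of_two h (commute_fix h.uf ht.1 hrt ht.2)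
      ⟨k, by simpa using congrArg (fun z : R => ((z : C) : G)) hk⟩
  -- the orbit of `a` under `O` has size prime to `p`
  set N := O ⊓ (MulAction.stabilizer G a).subgroupOf C with hNdef
  have horb : ¬ p ∣ Nat.card (MulAction.orbit O a) := by
    rw [Nat.card_coe_set_eq, ← MulAction.index_stabilizer]
    set O' := O.map C.subtype with hO'
    have hO'norm : ∀ x ∈ O', t * x * t⁻¹ ∈ O' := by
      rintro _ ⟨x, hx, rfl⟩
      exact ⟨⟨t, htC⟩ * x * ⟨t, htC⟩⁻¹, (inferInstance : O.Normal).conj_mem x hx _, rfl⟩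
    have hO'odd : Odd (Nat.card O') := by rwa [card_map_of_injective C.subtype_injective]
    obtain ⟨R, hR⟩ := exists_invariant_sylow hO'odd ht.1 hO'norm p
    have hRfix : ∀ x ∈ (R : Subgroup O'), (x : G) • a = a := by
      intro x hx
      refine commute_fix h.uf ht.1 (commute_of_not_inverted (P := (R : Subgroup O').map O'.subtype)
        ?_ ht.1 ?_ ⟨x, hx, rfl⟩).symm ht.2
      · intro r hr hrd
        rw [card_map_of_injective O'.subtype_injective] at hrd
        obtain ⟨k, hk⟩ := IsPGroup.iff_card.1 R.isPGroup'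
        rw [hk] at hrd
        obtain rfl := (Nat.prime_dvd_prime_iff_eq hr (Fact.out : p.Prime)).1 (hr.dvd_of_dvd_pow hrd)
        exact hni
      · rintro _ ⟨z, hz, rfl⟩
        exact ⟨_, hR z hz, rfl⟩
    let e : O ≃* O' := Subgroup.equivMapOfInjective O C.subtype C.subtype_injective
    have hle : (R : Subgroup O').comap e.toMonoidHom ≤ MulAction.stabilizer O a := by
      intro x hx
      exact hRfix _ hx
    have h1 := Subgroup.index_dvd_of_le hle
    rw [Subgroup.index_comap_of_surjective _ e.surjective] at h1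
    exact fun hd => R.not_dvd_index (hd.trans h1)
  -- every `p`-subgroup normalising the image of the Sylow subgroup fixes a point
  set Pbar := P.mapSurjective (QuotientGroup.mk'_surjective O) with hPbar
  have hkey : ∀ R : Subgroup C, IsPGroup p R →
      (∀ r ∈ R, (r : C ⧸ O) ∈ normalizer ((Pbar : Subgroup (C ⧸ O)) : Set (C ⧸ O))) →
      ∃ z : Ω, ∀ r ∈ R, (r : G) • z = z := by
    intro R hR hRn
    have hOa : ∀ r ∈ R, ∀ o ∈ O, ∃ o' ∈ O, (r : G) • (o : G) • a = (o' : G) • a := by
      intro r hr o ho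
      obtain ⟨n, hn, hnr⟩ := CfsgLib.ExtremelyClosed.exists_normalizer_mul (O := O) hE₀p hOodd
        (y := r) (fun e he => by
          have h1 : ((r : C ⧸ O) * (e : C ⧸ O) * (r : C ⧸ O)⁻¹) ∈ (Pbar : Subgroup (C ⧸ O)) :=
            (mem_normalizer_iff.1 (hRn r hr) _).1 ⟨e, he, rfl⟩
          obtain ⟨e', he', hee⟩ := h1
          have h2 : e'⁻¹ * (r * e * r⁻¹) ∈ O := by
            rw [← QuotientGroup.eq]
            exact hee
          have := mul_mem (mem_sup_left (T := O) he') (mem_sup_right (S := E₀) h2)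
          rwa [mul_inv_cancel_left] at this)
      have hna : (n : G) • a = a := eAt_normalizer_fix h ht (mem_subgroupOf.1
        ((mem_normalizer_iff.1 hn (⟨t, htC⟩ : C)).1 (mem_subgroupOf.2 (Subgroup.subset_closure ht))))
      -- `r o = n ((n⁻¹ r) o n) n⁻¹` with the middle factor in `O`
      refine ⟨n * (n⁻¹ * r * o) * n⁻¹, (inferInstance : O.Normal).conj_mem _ (mul_mem hnr ho) n, ?_⟩
      rw [← mul_smul, Subgroup.coe_mul, Subgroup.coe_mul, Subgroup.coe_mul, Subgroup.coe_mul,
        Subgroup.coe_inv, mul_smul _ ((n : G)⁻¹), inv_smul_eq_iff.2 hna.symm]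
      congr 1
      group
    letI : MulAction R (MulAction.orbit O a) := {
      smul := fun r z => ⟨((r : C) : G) • (z : Ω), by
        obtain ⟨⟨o, ho⟩, e⟩ := z.2
        obtain ⟨o', ho', e'⟩ := hOa r r.2 o ho
        exact ⟨⟨o', ho'⟩, by
          show ((o' : C) : G) • a = _
          rw [← e', ← e]
          rfl⟩⟩
      one_smul := fun z => Subtype.ext (one_smul G _)
      mul_smul := fun r s z => Subtype.ext (mul_smul _ _ _) }
    obtain ⟨⟨z, _⟩, hz⟩ := hR.nonempty_fixed_point_of_prime_not_dvd_card _ horb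
    exact ⟨z, fun r hr => congrArg Subtype.val (hz ⟨r, hr⟩)⟩
  -- `p` does not divide the number of Sylow subgroups modulo `O`
  have hnS : ¬ p ∣ Nat.card (Sylow 2 (C ⧸ O)) := by
    rcases hind C hne Pbar with hnorm | ⟨S, hSn, -, hES, -, hS⟩
    · rw [Pbar.card_eq_index_normalizer]
      erw [Subgroup.normalizer_eq_top_iff.2 hnorm]
      rw [index_top]
      exact (Fact.out : p.Prime).not_dvd_one
    · intro hd
      have hle : ∀ P' : Sylow 2 (C ⧸ O), (P' : Subgroup (C ⧸ O)) ≤ S := by
        intro P'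
        obtain ⟨g, rfl⟩ := MulAction.exists_smul_eq (C ⧸ O) Pbar P'
        exact (Subgroup.pointwise_smul_le_pointwise_smul_iff.2 hES).trans
          (Subgroup.Normal.conj_smul_eq_self g S).le
      have hbij : Function.Bijective (fun P' : Sylow 2 (C ⧸ O) => P'.subtype (hle P')) := by
        refine ⟨fun P₁ P₂ e => Sylow.ext ?_, fun R => ?_⟩
        · have e' := congrArg (fun R : Sylow 2 S => (R : Subgroup S).map S.subtype) e
          simpa [Sylow.coe_subtype, Subgroup.map_subgroupOf_eq_of_le, hle] using e'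
        · obtain ⟨P', hP'⟩ := (R.isPGroup'.map S.subtype).exists_le_sylow
          refine ⟨P', Sylow.ext (R.is_maximal' (P'.subtype (hle P')).isPGroup' ?_)⟩
          intro x hx
          exact hP' ⟨x, hx, rfl⟩
      rw [Nat.card_congr (Equiv.ofBijective _ hbij)] at hd
      obtain ⟨R⟩ : Nonempty (Sylow 2 S) := Sylow.nonempty
      have hpS : p ∣ Nat.card S := hd.trans (R.card_dvd_index.trans (index_dvd_card _))
      have hi := (inverted_of_prime_dvd (hS R) Fact.out hp2 hpS).map _ S.subtype_injective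
      exact hni ((inverted_of_quotient hOodd Fact.out hp2 hi).map _ C.subtype_injective)
  have hQ' : IsPGroup p (Q.subgroupOf C) := hQ.of_equiv (subgroupOfEquivOfLe hQy).symm
  obtain ⟨P', hP'⟩ :=
    (hQ'.map (QuotientGroup.mk' O)).nonempty_fixed_point_of_prime_not_dvd_card _ hnS
  obtain ⟨g, hg⟩ := MulAction.exists_smul_eq (C ⧸ O) Pbar P'
  obtain ⟨g, rfl⟩ := QuotientGroup.mk_surjective g
  obtain ⟨z, hz⟩ := hkey ((Q.subgroupOf C).map (MulAut.conj g⁻¹).toMonoidHom) (hQ'.map _) (by
    rintro _ ⟨q, hq, rfl⟩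
    refine Sylow.smul_eq_iff_mem_normalizer.1 ?_
    have h1 : ((q : C ⧸ O)) • P' = P' := hP' ⟨_, q, hq, rfl⟩
    show ((g⁻¹ * q * g⁻¹⁻¹ : C) : C ⧸ O) • Pbar = Pbar
    rw [inv_inv, QuotientGroup.mk_mul, QuotientGroup.mk_mul, QuotientGroup.mk_inv, mul_smul,
      hg, mul_smul, h1, ← hg, inv_smul_smul])
  refine ⟨(g : G) • z, fun q hq => ?_⟩
  have := hz _ ⟨⟨q, hQy hq⟩, mem_subgroupOf.2 hq, rfl⟩
  have e : ((MulAut.conj g⁻¹).toMonoidHom (⟨q, hQy hq⟩ : C) : G) = (g : G)⁻¹ * q * g := by simp
  rw [e, mul_smul, mul_smul, inv_smul_eq_iff] at this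
  exact this

/-- A prime which is not inverted and divides the order of a point stabilizer does not divide
the number of points. -/
theorem not_dvd_card_points {p : ℕ} [Fact p.Prime] (hp2 : p ≠ 2) (hni : ¬ Inverted G p) {a : Ω}
    (hd : p ∣ Nat.card (MulAction.stabilizer G a)) : ¬ p ∣ Nat.card Ω := by
  haveI := finite_points h.uf
  haveI : Nonempty Ω := ⟨a⟩
  haveI : MulAction.IsPretransitive G Ω := ⟨h.uf.transitive⟩
  set M := MulAction.stabilizer G a with hM
  obtain ⟨P⟩ : Nonempty (Sylow p M) := Sylow.nonempty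
  set P₁ := (P : Subgroup M).map M.subtype with hP₁
  have hcard : Nat.card P₁ = Nat.card (P : Subgroup M) :=
    card_map_of_injective M.subtype_injective
  -- no larger `p`-group fixes a point
  have hbig : ∀ Q : Subgroup G, IsPGroup p Q → (∃ z : Ω, ∀ g ∈ Q, g • z = z) →
      Nat.card Q ≤ Nat.card P₁ := by
    rintro Q hQ ⟨z, hz⟩
    obtain ⟨g, rfl⟩ := MulAction.exists_smul_eq G a z
    have hle : Q.map (MulAut.conj g⁻¹).toMonoidHom ≤ M := by
      rintro _ ⟨q, hq, rfl⟩
      show (g⁻¹ * q * g⁻¹⁻¹) • a = a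
      rw [inv_inv, mul_smul, mul_smul, hz q hq, inv_smul_smul]
    obtain ⟨R, hR⟩ := ((hQ.map _).of_equiv (subgroupOfEquivOfLe hle).symm).exists_le_sylow
    calc Nat.card Q = Nat.card ((Q.map (MulAut.conj g⁻¹).toMonoidHom).subgroupOf M) := by
          rw [Nat.card_congr (subgroupOfEquivOfLe hle).toEquiv,
            card_map_of_injective (MulAut.conj g⁻¹).injective]
      _ ≤ Nat.card (R : Subgroup M) := Nat.le_of_dvd Nat.card_pos (card_dvd_of_le hR)
      _ = Nat.card P₁ := by rw [hcard, R.card_eq_multiplicity, P.card_eq_multiplicity]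
  have hP₁p : IsPGroup p P₁ := P.isPGroup'.map _
  intro hdn
  obtain ⟨R, hR⟩ := hP₁p.exists_le_sylow
  have hlt : Nat.card P₁ < Nat.card (R : Subgroup G) := by
    rw [hcard, P.card_eq_multiplicity, R.card_eq_multiplicity]
    refine Nat.pow_lt_pow_right (Fact.out : p.Prime).one_lt ?_
    rw [← M.card_mul_index, MulAction.index_stabilizer_of_transitive,
      Nat.factorization_mul Nat.card_pos.ne' Nat.card_pos.ne', Finsupp.add_apply]
    have := (Fact.out : p.Prime).factorization_pos_of_dvd Nat.card_pos.ne' hdn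
    omega
  haveI : Nontrivial (P : Subgroup M) := Finite.one_lt_card_iff_nontrivial.1 (by
    rw [P.card_eq_multiplicity]
    exact Nat.one_lt_pow ((Fact.out : p.Prime).factorization_pos_of_dvd Nat.card_pos.ne' hd).ne'
      (Fact.out : p.Prime).one_lt)
  haveI : Nontrivial (R : Subgroup G) := Finite.one_lt_card_iff_nontrivial.1 (by
    have : 0 < Nat.card P₁ := Nat.card_pos
    omega)
  haveI := R.isPGroup'.center_nontrivial
  obtain ⟨z', hz'⟩ := exists_prime_orderOf_dvd_card' (G := Subgroup.center (R : Subgroup G)) p (by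
    obtain ⟨n, hn, hn'⟩ := (R.isPGroup'.to_subgroup
      (Subgroup.center (R : Subgroup G))).nontrivial_iff_card.1 inferInstance
    exact hn' ▸ dvd_pow_self p hn.ne')
  set z : G := ((z' : (R : Subgroup G)) : G) with hzdef
  have hzo : orderOf z = p := by rw [hzdef, Subgroup.orderOf_coe, Subgroup.orderOf_coe, hz']
  have hzc : ∀ r ∈ (R : Subgroup G), r * z = z * r := fun r hr =>
    congrArg Subtype.val (Subgroup.mem_center_iff.1 z'.2 ⟨r, hr⟩)
  by_cases hzP : z ∈ P₁
  · obtain ⟨w, hw⟩ := exists_fix_of_centralizes h hind hp2 hni hzo (a := a)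
      (by obtain ⟨w, -, e⟩ := hzP; rw [← e]; exact w.2) R.isPGroup'
      fun r hr => mem_centralizer_singleton_iff.2 (hzc r hr)
    exact absurd (hbig _ R.isPGroup' ⟨w, hw⟩) (not_le.2 hlt)
  · haveI := P.isPGroup'.center_nontrivial
    obtain ⟨y', hy'⟩ := exists_prime_orderOf_dvd_card' (G := Subgroup.center (P : Subgroup M)) p (by
      obtain ⟨n, hn, hn'⟩ := (P.isPGroup'.to_subgroup
        (Subgroup.center (P : Subgroup M))).nontrivial_iff_card.1 inferInstance
      exact hn' ▸ dvd_pow_self p hn.ne')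
    set y : G := (((y' : (P : Subgroup M)) : M) : G) with hydef
    have hyo : orderOf y = p := by
      rw [hydef, Subgroup.orderOf_coe, Subgroup.orderOf_coe, Subgroup.orderOf_coe, hy']
    have hQ : P₁ ⊔ zpowers z ≤ (R : Subgroup G) :=
      sup_le hR (zpowers_le.2 (z' : (R : Subgroup G)).2)
    have hQy : P₁ ⊔ zpowers z ≤ Subgroup.centralizer ({y} : Set G) := by
      refine sup_le ?_ (zpowers_le.2 (mem_centralizer_singleton_iff.2 ?_))
      · rintro _ ⟨w, hw, rfl⟩
        exact mem_centralizer_singleton_iff.2 (congrArg (fun v : (P : Subgroup M) => ((v : M) : G))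
          (Subgroup.mem_center_iff.1 y'.2 ⟨w, hw⟩))
      · exact (hzc y (hR ⟨_, (y' : (P : Subgroup M)).2, rfl⟩)).symm
    obtain ⟨w, hw⟩ := exists_fix_of_centralizes h hind hp2 hni hyo (a := a)
      ((y' : (P : Subgroup M)) : M).2 (R.isPGroup'.to_le hQ) hQy
    have h1 := hbig _ (R.isPGroup'.to_le hQ) ⟨w, hw⟩
    have h2 : P₁ = P₁ ⊔ zpowers z := eq_of_le_of_card_ge le_sup_left h1
    exact hzP (h2 ▸ mem_sup_right (mem_zpowers z))

end CfsgLib.DualFree
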