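import Cfsg.Agent.DualFree.Transfer
import Mathlib.GroupTheory.SchurZassenhaus

/-!
# The simple case: the odd part of an involution centralizer
-/

set_option autoImplicit false
set_option linter.style.haveILetI false
set_option linter.unusedSectionVars false

namespace CfsgLib.DualFree

open CfsgLib.Small CfsgLib.SEmbed Subgroup

variable {G : Type*} [Group G] [Finite G] {Ω : Type*} [MulAction G Ω] (h : Setting G Ω)

/-- An element is the product of two of its powers, a 2-element and an element of odd order. -/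
theorem exists_two_parts (g : G) : ∃ i j : ℤ, g = g ^ i * g ^ j ∧
    (∃ k : ℕ, (g ^ i) ^ 2 ^ k = 1) ∧ Odd (orderOf (g ^ j)) := by
  obtain ⟨k, m, hm, hk⟩ := Nat.exists_eq_two_pow_mul_odd (orderOf_pos g).ne'
  have hbez := Nat.gcd_eq_gcd_ab (2 ^ k) m
  rw [((Nat.coprime_two_left.2 hm).pow_left k), Nat.cast_one] at hbez
  refine ⟨(m : ℤ) * Nat.gcdB (2 ^ k) m, ((2 ^ k : ℕ) : ℤ) * Nat.gcdA (2 ^ k) m, ?_, ⟨k, ?_⟩, ?_⟩
  · rw [← zpow_add, add_comm, ← hbez, zpow_one]
  · rw [← zpow_natCast, ← zpow_mul, mul_right_comm, ← Nat.cast_mul, mul_comm m, ← hk, zpow_mul,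
      zpow_natCast, pow_orderOf_eq_one, one_zpow]
  · refine hm.of_dvd_nat (orderOf_dvd_of_pow_eq_one ?_)
    rw [← zpow_natCast, ← zpow_mul, mul_right_comm, ← Nat.cast_mul, ← hk, zpow_mul,
      zpow_natCast, pow_orderOf_eq_one, one_zpow]

include h

theorem eAt_le_centralizer (a : Ω) :
    eAt G a ≤ Subgroup.centralizer ((eAt G a : Subgroup G) : Set G) := fun _ he =>
  Subgroup.mem_centralizer_iff.2 fun _ hs => (eAt_comm h hs he).eq

theorem centralizer_eAt_le_stabilizer (a : Ω) :
    Subgroup.centralizer ((eAt G a : Subgroup G) : Set G) ≤ MulAction.stabilizer G a := by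
  intro g hg
  obtain ⟨t, ht⟩ := h.uf.exists_inv a
  exact centralizer_le_stabilizer h.uf ht (mem_centralizer_singleton_iff.2
    (Subgroup.mem_centralizer_iff.1 hg t ((mem_eAt_iff h).2 (Or.inr ht))).symm)

theorem conj_mem_centralizer_eAt {a : Ω} {g c : G} (hg : g • a = a)
    (hc : c ∈ Subgroup.centralizer ((eAt G a : Subgroup G) : Set G)) :
    g * c * g⁻¹ ∈ Subgroup.centralizer ((eAt G a : Subgroup G) : Set G) := by
  rw [Subgroup.mem_centralizer_iff] at hc ⊢
  intro s hs
  have h1 := hc _ (conj_mem_eAt h (inv_smul_eq_iff.2 hg.symm) hs)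
  rw [inv_inv] at h1
  calc s * (g * c * g⁻¹) = g * ((g⁻¹ * s * g) * c) * g⁻¹ := by group
    _ = g * (c * (g⁻¹ * s * g)) * g⁻¹ := by rw [h1]
    _ = g * c * g⁻¹ * s := by group

/-- The elements of odd order centralising `eAt G a` form a subgroup. -/
theorem exists_oddPart (a : Ω) : ∃ W : Subgroup G, ∀ g : G, g ∈ W ↔
    g ∈ Subgroup.centralizer ((eAt G a : Subgroup G) : Set G) ∧ Odd (orderOf g) := by
  haveI : Fact (Nat.Prime 2) := ⟨Nat.prime_two⟩
  set C := Subgroup.centralizer ((eAt G a : Subgroup G) : Set G) with hC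
  set E := (eAt G a).subgroupOf C with hE
  haveI : E.Normal := ⟨fun e he g => mem_subgroupOf.2 (conj_mem_eAt h
    (centralizer_eAt_le_stabilizer h a g.2) (mem_subgroupOf.1 he))⟩
  have hidx : Odd E.index := by
    refine (odd_index_eAt h a).of_dvd_nat ?_
    exact Dvd.intro _ (Subgroup.relIndex_mul_relIndex (eAt G a) C (MulAction.stabilizer G a)
      (eAt_le_centralizer h a) (centralizer_eAt_le_stabilizer h a))
  have hcop : (Nat.card E).Coprime E.index := by
    obtain ⟨k, hk⟩ := IsPGroup.iff_card.1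
      ((eAt_isPGroup h a).of_equiv (subgroupOfEquivOfLe (eAt_le_centralizer h a)).symm)
    rw [show Nat.card E = 2 ^ k from hk]
    exact (Nat.coprime_two_left.2 hidx).pow_left k
  obtain ⟨H, hH⟩ := Subgroup.exists_right_complement'_of_coprime hcop
  have hHodd : Odd (Nat.card H) := by rw [← hH.symm.index_eq_card]; exact hidx
  refine ⟨H.map C.subtype, fun g => ⟨?_, ?_⟩⟩
  · rintro ⟨x, hx, rfl⟩
    exact ⟨x.2, hHodd.of_dvd_nat (by
      rw [Subgroup.coe_subtype, Subgroup.orderOf_coe]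
      exact Subgroup.orderOf_dvd_natCard H hx)⟩
  · rintro ⟨hg, hodd⟩
    obtain ⟨⟨e, x⟩, hex⟩ := hH.2 ⟨g, hg⟩
    have hge : g = (e : C) * (x : C) := by
      rw [← Subgroup.coe_mul]; exact congrArg Subtype.val hex.symm
    have hee : ((e : C) : G) * (e : C) = 1 := eAt_sq h (mem_subgroupOf.1 e.2)
    have hcomm : Commute ((e : C) : G) ((x : C) : G) :=
      Subgroup.mem_centralizer_iff.1 (x : C).2 _ (mem_subgroupOf.1 e.2)
    have he1 : ((e : C) : G) = 1 := by
      have hxo : ((x : C) : G) ^ Nat.card H = 1 :=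
        congrArg (fun z : H => ((z : C) : G)) (pow_card_eq_one' (x := x))
      have h1 : g ^ Nat.card H = ((e : C) : G) := by
        obtain ⟨i, hi⟩ := hHodd
        rw [hge, hcomm.mul_pow, hxo, mul_one, hi, pow_succ, pow_mul, pow_two, hee, one_pow, one_mul]
      obtain ⟨j, hj⟩ := (orderOf_pow_dvd (n := Nat.card H) (x := g))
      by_contra hne
      rw [h1, orderOf_eq_prime (by rw [pow_two, hee]) hne] at hj
      exact hodd.not_two_dvd_nat (hj ▸ dvd_mul_right 2 j)
    exact ⟨x, x.2, by rw [hge, he1, one_mul]; rfl⟩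

variable (hind : ∀ H : Subgroup G, H ≠ ⊤ → HasStructure (H ⧸ Cfsg.oddCore H))
include hind

/-- The centralizer of an involution at `a` centralises `eAt G a`. -/
theorem centralizer_eq_centralizer_eAt {a : Ω} {t : G} (ht : t ∈ invMap (G := G) a a) :
    Subgroup.centralizer ({t} : Set G) =
      Subgroup.centralizer ((eAt G a : Subgroup G) : Set G) := by
  refine le_antisymm (fun g hg => Subgroup.mem_centralizer_iff.2 fun s hs => ?_) fun g hg => ?_
  · have hgt : Commute g t := mem_centralizer_singleton_iff.1 hg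
    obtain ⟨i, j, e, h2, hodd⟩ := exists_two_parts g
    have h1 : Commute (g ^ i) s :=
      eAt_comm h (mem_eAt_of_two h (commute_fix h.uf ht.1 (hgt.zpow_left i) ht.2) h2) hs
    have h3 : Commute (g ^ j) s := commute_eAt h hind ht (hgt.zpow_left j) hodd hs
    rw [e]
    exact (h1.mul_left h3).eq.symm
  · exact mem_centralizer_singleton_iff.2
      (Subgroup.mem_centralizer_iff.1 hg t ((mem_eAt_iff h).2 (Or.inr ht))).symm

omit hind in
theorem exists_core_decomp {a b : Ω} (hab : a ≠ b) {t g : G} (ht : t ∈ invMap (G := G) a a)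
    (hg : g • a = a) :
    ∃ k ∈ core G a b, ∃ c ∈ Subgroup.centralizer ({t} : Set G), g = k * c := by
  have hmem : ∀ k : core G a b, (k : G) * t * (k : G)⁻¹ ∈ invMap (G := G) a a := fun k =>
    conj_mem_invMap (mem_pairStab.1 (core_le h a b k.2)).1 ht
  let f : core G a b → invMap (G := G) a a := fun k => ⟨_, hmem k⟩
  have hf : Function.Injective f := by
    intro k l e
    have e' : (k : G) * t * (k : G)⁻¹ = (l : G) * t * (l : G)⁻¹ := congrArg Subtype.val e
    have hc : Commute ((l : G)⁻¹ * k) t := by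
      show (l : G)⁻¹ * k * t = t * ((l : G)⁻¹ * k)
      calc (l : G)⁻¹ * k * t = (l : G)⁻¹ * ((k : G) * t * (k : G)⁻¹) * k := by group
        _ = t * ((l : G)⁻¹ * k) := by rw [e']; group
    exact (Subtype.ext (inv_mul_eq_one.1 (core_eq_one h hab (mul_mem (inv_mem l.2) k.2) ht.1 hc))).symm
  obtain ⟨k, hk⟩ := ((Nat.bijective_iff_injective_and_card f).2 ⟨hf, card_core h hab⟩).2
    ⟨g * t * g⁻¹, conj_mem_invMap hg ht⟩
  have hk' : (k : G) * t * (k : G)⁻¹ = g * t * g⁻¹ := congrArg Subtype.val hk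
  refine ⟨k, k.2, (k : G)⁻¹ * g, mem_centralizer_singleton_iff.2 ?_, (mul_inv_cancel_left _ _).symm⟩
  calc (k : G)⁻¹ * g * t = (k : G)⁻¹ * (g * t * g⁻¹) * g := by group
    _ = t * ((k : G)⁻¹ * g) := by rw [← hk']; group

/-- `G_a = core a b · C(eAt G a)`. -/
theorem exists_core_decomp' {a b : Ω} (hab : a ≠ b) {g : G} (hg : g • a = a) :
    ∃ k ∈ core G a b, ∃ c ∈ Subgroup.centralizer ((eAt G a : Subgroup G) : Set G), g = k * c := by
  obtain ⟨t, ht⟩ := h.uf.exists_inv a
  obtain ⟨k, hk, c, hc, e⟩ := exists_core_decomp h hab (t := t) ht hg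
  exact ⟨k, hk, c, centralizer_eq_centralizer_eAt h hind (t := t) ht ▸ hc, e⟩

omit hind in
/-- `C(eAt G a) = eAt G a · W`. -/
theorem exists_eAt_mul {a : Ω} {c : G}
    (hc : c ∈ Subgroup.centralizer ((eAt G a : Subgroup G) : Set G)) :
    ∃ e ∈ eAt G a, ∃ w ∈ Subgroup.centralizer ((eAt G a : Subgroup G) : Set G),
      Odd (orderOf w) ∧ c = e * w := by
  obtain ⟨i, j, e, h2, hodd⟩ := exists_two_parts c
  exact ⟨c ^ i, mem_eAt_of_two h (centralizer_eAt_le_stabilizer h a (zpow_mem hc i)) h2,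
    c ^ j, zpow_mem hc j, hodd, e⟩

/-- An element of a two point stabilizer centralising an interchanging involution centralises
`eAt G a`. -/
theorem mem_centralizer_eAt_of_commute {a b : Ω} (hab : a ≠ b) {u x : G}
    (hu : u ∈ invMap (G := G) a b) (hx : x ∈ pairStab G a b) (hxu : Commute x u) :
    x ∈ Subgroup.centralizer ((eAt G a : Subgroup G) : Set G) := by
  obtain ⟨t, ht⟩ := h.uf.exists_inv a
  set C := (Subgroup.centralizer ((eAt G a : Subgroup G) : Set G)).subgroupOf
    (MulAction.stabilizer G a) with hC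
  haveI : C.Normal := ⟨fun c hc g => mem_subgroupOf.2 (conj_mem_centralizer_eAt h g.2
    (mem_subgroupOf.1 hc))⟩
  have hidx : C.index = Nat.card (invMap (G := G) a a) := by
    have h1 := C.card_mul_index
    rw [card_stabilizer h (t := t) ht, centralizer_eq_centralizer_eAt h hind (t := t) ht,
      Nat.card_congr (subgroupOfEquivOfLe (centralizer_eAt_le_stabilizer h a)).toEquiv,
      mul_comm] at h1
    exact Nat.eq_of_mul_eq_mul_right Nat.card_pos h1
  have hpow := mem_subgroupOf.1 (C.pow_index_mem ⟨x, (mem_pairStab.1 hx).1⟩)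
  rw [Subgroup.coe_pow, hidx] at hpow
  have hcop : (orderOf x).Coprime (Nat.card (invMap (G := G) a a)) :=
    (coprime_card h hab hu.1 (C := Subgroup.zpowers x) fun z hz => by
      obtain ⟨i, rfl⟩ := Subgroup.mem_zpowers_iff.1 hz
      exact hxu.symm.zpow_right i).symm.coprime_dvd_left (by rw [Nat.card_zpowers])
  exact zpowers_le.2 hpow (mem_zpowers_pow_iff.2 hcop.symm)

/-- An element of the two point stabilizer centralising `eAt G a` commutes with the interchanging
involutions. -/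
theorem commute_swap {a b : Ω} (hab : a ≠ b) {u d : G} (hu : u ∈ invMap (G := G) a b)
    (hd : d ∈ pairStab G a b)
    (hdC : d ∈ Subgroup.centralizer ((eAt G a : Subgroup G) : Set G)) : Commute d u := by
  obtain ⟨k, hk, x, hx, hxu, rfl⟩ := exists_core_mul h hab hu hd
  have hkC : k ∈ Subgroup.centralizer ((eAt G a : Subgroup G) : Set G) := by
    have := mul_mem hdC (inv_mem (mem_centralizer_eAt_of_commute h hind hab hu hx hxu))
    rwa [mul_inv_cancel_right] at this
  obtain ⟨t, ht⟩ := h.uf.exists_inv a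
  rw [core_eq_one h hab hk (t := t) ht.1
    (Subgroup.mem_centralizer_iff.1 hkC t ((mem_eAt_iff h).2 (Or.inr ht))).symm, one_mul]
  exact hxu

/-- `core a b` commutes with the elements of `D` centralising `eAt G a`. -/
theorem commute_core {a b : Ω} (hab : a ≠ b) {k x : G} (hk : k ∈ core G a b)
    (hx : x ∈ pairStab G a b)
    (hxC : x ∈ Subgroup.centralizer ((eAt G a : Subgroup G) : Set G)) : Commute k x := by
  obtain ⟨hka, -⟩ := mem_pairStab.1 (core_le h a b hk)
  obtain ⟨hxa, hxb⟩ := mem_pairStab.1 hx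
  have h1 : k * x * k⁻¹ * x⁻¹ ∈ core G a b := by
    rw [show k * x * k⁻¹ * x⁻¹ = k * (x * k⁻¹ * x⁻¹) by group]
    exact mul_mem hk (conj_mem_core h hxa hxb (inv_mem hk))
  have h2 : k * x * k⁻¹ * x⁻¹ ∈ Subgroup.centralizer ((eAt G a : Subgroup G) : Set G) :=
    mul_mem (conj_mem_centralizer_eAt h hka hxC) (inv_mem hxC)
  obtain ⟨t, ht⟩ := h.uf.exists_inv a
  exact mul_inv_eq_iff_eq_mul.1 (mul_inv_eq_one.1 (core_eq_one h hab h1 (t := t) ht.1
    (Subgroup.mem_centralizer_iff.1 h2 t ((mem_eAt_iff h).2 (Or.inr ht))).symm))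

/-- `C(eAt G a)` is transitive on the points other than `a`. -/
theorem exists_centralizer_smul {a b c : Ω} (hab : a ≠ b) (hac : a ≠ c) :
    ∃ g ∈ Subgroup.centralizer ((eAt G a : Subgroup G) : Set G), g • b = c := by
  obtain ⟨f, hfa, hfb⟩ := exists_stab_smul h hab hac
  obtain ⟨k, hk, z, hz, rfl⟩ := exists_core_decomp' h hind hab hfa
  obtain ⟨hka, hkb⟩ := mem_pairStab.1 (core_le h a b hk)
  refine ⟨k * z * k⁻¹, conj_mem_centralizer_eAt h hka hz, ?_⟩
  rw [mul_smul, inv_smul_eq_iff.2 hkb.symm, hfb]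

end CfsgLib.DualFree
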