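import Cfsg.Agent.DualFree.Basic
import Cfsg.Agent.SEmbed.Elementary
import Cfsg.Agent.InvCentAbelian.OrbitCount
import Cfsg.Agent.Solvable.Hall
import Cfsg.Agent.S3745
import Cfsg.Agent.S0205

/-!
# The simple case: double transitivity

Every involution fixes exactly one point, involutions with the same fixed point commute and no odd
prime is both inverted and centralised.  The inverted part `core a b` of a two point stabilizer is
an abelian normal subgroup, its nontrivial elements fix only `a` and `b`, and the action is doubly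
transitive.
-/

set_option autoImplicit false
set_option linter.style.haveILetI false
set_option linter.unusedSectionVars false

namespace CfsgLib.DualFree

open CfsgLib.Small CfsgLib.SEmbed Subgroup
open scoped Pointwise

/-- The standing hypothesis. -/
structure Setting (G : Type*) [Group G] (Ω : Type*) [MulAction G Ω] : Prop where
  uf : UniqueFix G Ω
  nontriv : Nontrivial Ω
  dual : DualFree G
  commute_same : ∀ i j : G, orderOf i = 2 → orderOf j = 2 → ∀ x : Ω, i • x = x → j • x = x →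
    Commute i j
  two_elem : ∀ g : G, (∃ k : ℕ, g ^ 2 ^ k = 1) → g * g = 1
  three_le : ∀ x : Ω, 3 ≤ Nat.card (invMap (G := G) x x)
  simple : IsSimpleGroup G

/-- The subgroup generated by the involutions fixing a point. -/
def eAt (G : Type*) [Group G] {Ω : Type*} [MulAction G Ω] (x : Ω) : Subgroup G :=
  Subgroup.closure (invMap (G := G) x x)

/-- The subgroup generated by the products of two involutions interchanging two points. -/
def core (G : Type*) [Group G] {Ω : Type*} [MulAction G Ω] (a b : Ω) : Subgroup G :=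
  Subgroup.closure {g | ∃ i ∈ invMap (G := G) a b, ∃ j ∈ invMap (G := G) a b, g = i * j}

variable {G : Type*} [Group G] [Finite G] {Ω : Type*} [MulAction G Ω] (h : Setting G Ω)
include h

theorem mem_eAt_iff {x : Ω} {g : G} : g ∈ eAt G x ↔ g = 1 ∨ g ∈ invMap (G := G) x x := by
  refine ⟨fun hg => ?_, ?_⟩
  · induction hg using Subgroup.closure_induction with
    | mem y hy => exact Or.inr hy
    | one => exact Or.inl rfl
    | mul p q _ _ hp hq =>
      rcases hp with rfl | hp
      · rw [one_mul]; exact hq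
      rcases hq with rfl | hq
      · rw [mul_one]; exact Or.inr hp
      by_cases hpq : p * q = 1
      · exact Or.inl hpq
      · refine Or.inr ⟨orderOf_eq_two_iff_sq.2 ⟨hpq, ?_⟩, by rw [mul_smul, hq.2, hp.2]⟩
        have hc := h.commute_same p q hp.1 hq.1 x hp.2 hq.2
        calc p * q * (p * q) = p * (q * p) * q := by group
          _ = (p * p) * (q * q) := by rw [← hc.eq]; group
          _ = 1 := by rw [mul_self_of_orderOf_two hp.1, mul_self_of_orderOf_two hq.1, one_mul]
    | inv p _ hp =>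
      rcases hp with rfl | hp
      · exact Or.inl inv_one
      · rw [inv_eq_self_of_orderOf_two hp.1]; exact Or.inr hp
  · rintro (rfl | hg)
    exacts [one_mem _, Subgroup.subset_closure hg]

theorem eAt_smul {x : Ω} {g : G} (hg : g ∈ eAt G x) : g • x = x := by
  rcases (mem_eAt_iff h).1 hg with rfl | hg
  exacts [one_smul G x, hg.2]

theorem eAt_sq {x : Ω} {g : G} (hg : g ∈ eAt G x) : g * g = 1 := by
  rcases (mem_eAt_iff h).1 hg with rfl | hg
  exacts [one_mul 1, mul_self_of_orderOf_two hg.1]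

theorem eAt_comm {x : Ω} {g k : G} (hg : g ∈ eAt G x) (hk : k ∈ eAt G x) : Commute g k := by
  rcases (mem_eAt_iff h).1 hg with rfl | hg
  · exact Commute.one_left k
  rcases (mem_eAt_iff h).1 hk with rfl | hk
  · exact Commute.one_right g
  exact h.commute_same g k hg.1 hk.1 x hg.2 hk.2

theorem conj_mem_eAt {x : Ω} {g e : G} (hg : g • x = x) (he : e ∈ eAt G x) :
    g * e * g⁻¹ ∈ eAt G x := by
  rcases (mem_eAt_iff h).1 he with rfl | he
  · simp
  · exact (mem_eAt_iff h).2 (Or.inr (conj_mem_invMap hg he))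

theorem eAt_isPGroup (x : Ω) : IsPGroup 2 (eAt G x) := fun g =>
  ⟨1, Subtype.ext (by rw [pow_one, Subgroup.coe_pow, pow_two]; exact eAt_sq h g.2)⟩

theorem card_eAt (x : Ω) : Nat.card (eAt G x) = Nat.card (invMap (G := G) x x) + 1 := by
  have e : ((eAt G x : Subgroup G) : Set G) = insert 1 (invMap (G := G) x x) := by
    ext g; exact mem_eAt_iff h
  show Nat.card ((eAt G x : Subgroup G) : Set G) = _
  rw [e, Nat.card_coe_set_eq, Set.ncard_insert_of_notMem (fun h1 => ne_one_of_orderOf_two h1.1 rfl)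
    (Set.toFinite _), ← Nat.card_coe_set_eq]

theorem odd_card_invMap (x : Ω) : Odd (Nat.card (invMap (G := G) x x)) := by
  haveI : Fact (Nat.Prime 2) := ⟨Nat.prime_two⟩
  obtain ⟨k, hk⟩ := IsPGroup.iff_card.1 (eAt_isPGroup h x)
  have h1 := card_eAt h x
  have h2 := h.three_le x
  rcases k with _ | k
  · rw [pow_zero] at hk; omega
  · rw [pow_succ] at hk
    exact ⟨2 ^ k - 1, by omega⟩

/-- The 2-elements fixing `x` lie in `eAt G x`. -/
theorem mem_eAt_of_two {x : Ω} {g : G} (hg : g • x = x) (hk : ∃ k : ℕ, g ^ 2 ^ k = 1) :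
    g ∈ eAt G x := by
  by_cases h1 : g = 1
  · exact h1 ▸ one_mem _
  · exact (mem_eAt_iff h).2 (Or.inr ⟨orderOf_eq_two_iff_sq.2 ⟨h1, h.two_elem g hk⟩, hg⟩)

theorem eAt_le_stabilizer (x : Ω) : eAt G x ≤ MulAction.stabilizer G x := fun _ hg => eAt_smul h hg

theorem eAt_normal (x : Ω) : ((eAt G x).subgroupOf (MulAction.stabilizer G x)).Normal :=
  ⟨fun _ he g => mem_subgroupOf.2 (conj_mem_eAt h g.2 (mem_subgroupOf.1 he))⟩

theorem odd_index_eAt (x : Ω) :
    Odd ((eAt G x).subgroupOf (MulAction.stabilizer G x)).index := by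
  haveI := eAt_normal h x
  haveI : Fact (Nat.Prime 2) := ⟨Nat.prime_two⟩
  by_contra hodd
  rw [Nat.not_odd_iff_even, even_iff_two_dvd, Subgroup.index_eq_card] at hodd
  obtain ⟨q, hq⟩ := exists_prime_orderOf_dvd_card' 2 hodd
  obtain ⟨g, rfl⟩ := QuotientGroup.mk_surjective q
  have h1 : g ^ 2 ∈ (eAt G x).subgroupOf (MulAction.stabilizer G x) := by
    rw [← QuotientGroup.eq_one_iff, QuotientGroup.mk_pow, ← hq, pow_orderOf_eq_one]
  have h2 : (g : G) ∈ eAt G x := by
    refine mem_eAt_of_two h g.2 ⟨2, ?_⟩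
    have := eAt_sq h (mem_subgroupOf.1 h1)
    rwa [Subgroup.coe_pow, ← pow_add] at this
  rw [(QuotientGroup.eq_one_iff g).2 (mem_subgroupOf.2 h2), orderOf_one] at hq
  omega

theorem isSolvable_stabilizer (x : Ω) : Group.IsSolvable (MulAction.stabilizer G x) := by
  haveI := eAt_normal h x
  haveI : Fact (Nat.Prime 2) := ⟨Nat.prime_two⟩
  haveI : Group.IsNilpotent ((eAt G x).subgroupOf (MulAction.stabilizer G x)) :=
    ((eAt_isPGroup h x).of_equiv (subgroupOfEquivOfLe (eAt_le_stabilizer h x)).symm).isNilpotent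
  haveI : Group.IsSolvable
      (MulAction.stabilizer G x ⧸ (eAt G x).subgroupOf (MulAction.stabilizer G x)) :=
    Cfsg.Agent.S0205.result (by rw [← Subgroup.index_eq_card]; exact odd_index_eAt h x)
  exact (Group.isSolvable_iff_subgroup_quotient ((eAt G x).subgroupOf (MulAction.stabilizer G x))).2
    ⟨inferInstance, inferInstance⟩

theorem faithful {g : G} (hg : ∀ x : Ω, g • x = x) : g = 1 := by
  haveI := h.simple
  haveI := h.nontriv
  let K : Subgroup G := (MulAction.toPermHom G Ω).ker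
  have hmem : g ∈ K := by
    rw [MonoidHom.mem_ker]
    ext x
    simpa using hg x
  rcases IsSimpleGroup.eq_bot_or_eq_top_of_normal K inferInstance with hK | hK
  · rw [hK] at hmem; exact Subgroup.mem_bot.1 hmem
  · exfalso
    obtain ⟨x, y, hxy⟩ := exists_pair_ne Ω
    obtain ⟨f, hf⟩ := h.uf.transitive x y
    have : f ∈ K := hK ▸ Subgroup.mem_top f
    refine hxy ?_
    rw [← hf, show f • x = MulAction.toPermHom G Ω f x from rfl, MonoidHom.mem_ker.1 this]
    rfl

theorem center_eq_bot : Subgroup.center G = ⊥ := by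
  haveI := h.simple
  haveI := h.nontriv
  rcases IsSimpleGroup.eq_bot_or_eq_top_of_normal (Subgroup.center G) inferInstance with hK | hK
  · exact hK
  · exfalso
    obtain ⟨x, y, hxy⟩ := exists_pair_ne Ω
    obtain ⟨i, hi, hix⟩ := h.uf.exists_inv x
    have hc : Commute i (Classical.choose (h.uf.transitive x y)) :=
      (Subgroup.mem_center_iff.1 (hK ▸ Subgroup.mem_top i) _).symm
    have := commute_fix h.uf hi hc.symm hix
    rw [Classical.choose_spec (h.uf.transitive x y)] at this
    exact hxy this.symm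

theorem exists_swap {a b : Ω} (hab : a ≠ b) : ∃ u : G, u ∈ invMap (G := G) a b := by
  obtain ⟨s, hs, hsa⟩ := h.uf.exists_inv a
  obtain ⟨t, ht, htb⟩ := h.uf.exists_inv b
  obtain ⟨u, hu, -⟩ := exists_interchange h.uf hs ht hsa htb hab
  exact ⟨u, hu⟩

theorem invMap_comm (a b : Ω) : invMap (G := G) a b = invMap (G := G) b a := by
  ext i; exact ⟨fun hi => ⟨hi.1, smul_back hi.1 hi.2⟩, fun hi => ⟨hi.1, smul_back hi.1 hi.2⟩⟩

theorem core_comm (a b : Ω) : core G a b = core G b a := by
  rw [core, core, invMap_comm h a b]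

theorem swap_mul_mem {a b : Ω} {i j : G} (hi : i ∈ invMap (G := G) a b)
    (hj : j ∈ invMap (G := G) a b) : i * j ∈ pairStab G a b :=
  mem_pairStab.2 ⟨by rw [mul_smul, hj.2, smul_back hi.1 hi.2],
    by rw [mul_smul, smul_back hj.1 hj.2, hi.2]⟩

theorem core_le (a b : Ω) : core G a b ≤ pairStab G a b :=
  (closure_le _).2 (by rintro _ ⟨i, hi, j, hj, rfl⟩; exact swap_mul_mem h hi hj)

theorem conj_mem_core {a b a' b' : Ω} {g k : G} (ha : g • a = a') (hb : g • b = b')
    (hk : k ∈ core G a b) : g * k * g⁻¹ ∈ core G a' b' := by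
  induction hk using Subgroup.closure_induction with
  | mem y hy =>
    obtain ⟨i, hi, j, hj, rfl⟩ := hy
    have key : ∀ s ∈ invMap (G := G) a b, g * s * g⁻¹ ∈ invMap (G := G) a' b' := fun s hs =>
      ⟨by rw [orderOf_conj_eq]; exact hs.1,
        by rw [mul_smul, mul_smul, inv_smul_eq_iff.2 ha.symm, hs.2, hb]⟩
    exact Subgroup.subset_closure ⟨_, key i hi, _, key j hj, by group⟩
  | one => simp
  | mul p q _ _ hp hq => simpa [mul_assoc] using mul_mem hp hq
  | inv p _ hp => simpa [mul_assoc] using inv_mem hp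

theorem swap_conj_mem {a b : Ω} {u d : G} (hu : u ∈ invMap (G := G) a b)
    (hd : d ∈ pairStab G a b) : u * d * u⁻¹ ∈ pairStab G a b := by
  obtain ⟨hda, hdb⟩ := mem_pairStab.1 hd
  rw [inv_eq_self_of_orderOf_two hu.1]
  exact mem_pairStab.2 ⟨by rw [mul_smul, mul_smul, hu.2, hdb, smul_back hu.1 hu.2],
    by rw [mul_smul, mul_smul, smul_back hu.1 hu.2, hda, hu.2]⟩

/-- The elements inverted by an interchanging involution: as many as interchanging involutions. -/
theorem card_inverted {a b : Ω} (hab : a ≠ b) {u : G} (hu : u ∈ invMap (G := G) a b) :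
    Nat.card {d : G // d ∈ pairStab G a b ∧ u * d * u⁻¹ = d⁻¹} =
      Nat.card (invMap (G := G) a a) := by
  rw [← card_invMap_eq h.uf hab]
  have huu := mul_self_of_orderOf_two hu.1
  refine (Nat.card_eq_of_bijective (fun j : invMap (G := G) a b =>
    (⟨u * (j : G), swap_mul_mem h hu j.2, ?_⟩ :
      {d : G // d ∈ pairStab G a b ∧ u * d * u⁻¹ = d⁻¹})) ⟨?_, ?_⟩).symm
  · rw [mul_inv_rev, inv_eq_self_of_orderOf_two hu.1, inv_eq_self_of_orderOf_two j.2.1, ← mul_assoc,
      huu, one_mul]
  · intro i j e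
    exact Subtype.ext (mul_left_cancel (congrArg Subtype.val e))
  · rintro ⟨d, hd, hinv⟩
    refine ⟨⟨u * d, orderOf_eq_two_iff_sq.2 ⟨fun h1 => ?_, ?_⟩, ?_⟩, Subtype.ext ?_⟩
    · have : u = d⁻¹ := eq_inv_of_mul_eq_one_left h1
      exact hab ((mem_pairStab.1 (this ▸ inv_mem hd : u ∈ pairStab G a b)).1.symm.trans hu.2)
    · calc u * d * (u * d) = (u * d * u⁻¹) * (u * u) * d := by group
        _ = 1 := by rw [hinv, huu, mul_one, inv_mul_cancel]
    · rw [mul_smul, (mem_pairStab.1 hd).1, hu.2]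
    · show u * (u * d) = d
      rw [← mul_assoc, huu, one_mul]

theorem card_pairStab_eq {a b : Ω} (hab : a ≠ b) {u : G} (hu : u ∈ invMap (G := G) a b) :
    Nat.card (pairStab G a b) = Nat.card (invMap (G := G) a a) *
      Nat.card ↥(pairStab G a b ⊓ Subgroup.centralizer ({u} : Set G)) := by
  rw [← card_invMap_eq h.uf hab]
  exact InvCentAbelian.card_eq_mul_of_transitive _ hu
    (fun d hd => conj_mem_invMap_pair hd hu) fun t ht => exists_conj_swap h.uf hab hu ht

theorem card_invMap_inverted {a b : Ω} (hab : a ≠ b) {r : ℕ} (hr : r.Prime)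
    (hd : r ∣ Nat.card (invMap (G := G) a a)) : Inverted G r := by
  haveI := Fact.mk hr
  obtain ⟨u, hu⟩ := exists_swap h hab
  obtain ⟨P, hP⟩ := exists_invariant_sylow (odd_pairStab h.uf hab) hu.1
    (fun d hd => swap_conj_mem h hu hd) r
  by_contra hni
  have hPle : (P : Subgroup (pairStab G a b)).map (pairStab G a b).subtype ≤
      pairStab G a b ⊓ Subgroup.centralizer ({u} : Set G) := by
    rintro _ ⟨x, hx, rfl⟩
    refine ⟨x.2, mem_centralizer_singleton_iff.2 ?_⟩
    refine (commute_of_not_inverted (P := (P : Subgroup (pairStab G a b)).map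
      (pairStab G a b).subtype) ?_ hu.1 ?_ ⟨x, hx, rfl⟩).symm
    · intro s hs hsd
      rw [card_map_of_injective (pairStab G a b).subtype_injective] at hsd
      obtain ⟨k, hk⟩ := IsPGroup.iff_card.1 P.isPGroup'
      rw [hk] at hsd
      obtain rfl := (Nat.prime_dvd_prime_iff_eq hs hr).1 (hs.dvd_of_dvd_pow hsd)
      exact hni
    · rintro _ ⟨y, hy, rfl⟩
      exact ⟨_, hP y hy, rfl⟩
  have h1 : Nat.card (P : Subgroup (pairStab G a b)) ∣
      Nat.card ↥(pairStab G a b ⊓ Subgroup.centralizer ({u} : Set G)) := by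
    rw [← card_map_of_injective (pairStab G a b).subtype_injective]
    exact Subgroup.card_dvd_of_le hPle
  have h2 := Subgroup.card_mul_index (P : Subgroup (pairStab G a b))
  rw [card_pairStab_eq h hab hu] at h2
  obtain ⟨c, hc⟩ := h1
  rw [hc, mul_left_comm] at h2
  have h3 : (P : Subgroup (pairStab G a b)).index = Nat.card (invMap (G := G) a a) * c :=
    Nat.eq_of_mul_eq_mul_left Nat.card_pos h2
  exact P.not_dvd_index (h3 ▸ hd.mul_right c)

/-- `|I(a)|` is prime to the order of every group centralised by an involution. -/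
theorem coprime_card {a b : Ω} (hab : a ≠ b) {C : Subgroup G} {s : G} (hs : orderOf s = 2)
    (hC : ∀ x ∈ C, Commute s x) : (Nat.card (invMap (G := G) a a)).Coprime (Nat.card C) := by
  refine Nat.coprime_of_dvd fun r hr h1 h2 => ?_
  haveI := Fact.mk hr
  obtain ⟨x, hx⟩ := exists_prime_orderOf_dvd_card' (G := C) r h2
  refine h.dual r hr (fun e => (odd_card_invMap h a).not_two_dvd_nat (e ▸ h1))
    (card_invMap_inverted h hab hr h1) ⟨x, s, ?_, hs, hC x x.2⟩
  rw [Subgroup.orderOf_coe, hx]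

theorem coprime_centralizer {a b : Ω} (hab : a ≠ b) {s : G} (hs : orderOf s = 2) :
    (Nat.card (invMap (G := G) a a)).Coprime (Nat.card (Subgroup.centralizer ({s} : Set G))) :=
  coprime_card h hab hs fun _ hx => (mem_centralizer_singleton_iff.1 hx).symm

/-- The inverted elements form an abelian subgroup. -/
theorem exists_inverted_subgroup {a b : Ω} (hab : a ≠ b) {u : G}
    (hu : u ∈ invMap (G := G) a b) :
    ∃ H : Subgroup G, (∀ d : G, d ∈ H ↔ d ∈ pairStab G a b ∧ u * d * u⁻¹ = d⁻¹) := by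
  classical
  set D := pairStab G a b with hD
  set m := Nat.card (invMap (G := G) a a) with hm
  have hodd : Odd (Nat.card D) := odd_pairStab h.uf hab
  haveI : Group.IsSolvable D := Cfsg.Agent.S0205.result hodd
  have hcop : m.Coprime (Nat.card ↥(D ⊓ Subgroup.centralizer ({u} : Set G))) :=
    coprime_card h hab hu.1 fun x hx => (mem_centralizer_singleton_iff.1 hx.2).symm
  set π : Set ℕ := {p | p ∣ m} with hπ
  obtain ⟨H₁, hH₁, hH₁n⟩ := Cfsg.Agent.S3745.exists_invariant_hall (π := π)
    (A := Subgroup.zpowers u) (M := D) (by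
      rw [zpowers_le, Subgroup.mem_normalizer_iff]
      intro x
      refine ⟨fun hx => swap_conj_mem h hu hx, fun hx => ?_⟩
      have := swap_conj_mem h hu hx
      rwa [inv_eq_self_of_orderOf_two hu.1, show u * (u * x * u) * u = (u * u) * x * (u * u) by group,
        mul_self_of_orderOf_two hu.1, one_mul, mul_one] at this)
    (by rw [Nat.card_zpowers, hu.1]; exact Nat.coprime_two_left.2 hodd) inferInstance
  have huu := mul_self_of_orderOf_two hu.1
  let σ : D →* D :=
    { toFun := fun x => ⟨u * x * u⁻¹, swap_conj_mem h hu x.2⟩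
      map_one' := Subtype.ext (by simp)
      map_mul' := fun x y => Subtype.ext (by
        show u * ((x : G) * y) * u⁻¹ = u * (x : G) * u⁻¹ * (u * (y : G) * u⁻¹)
        group) }
  have hσσ : ∀ x, σ (σ x) = x := fun x => Subtype.ext (by
    show u * (u * (x : G) * u⁻¹) * u⁻¹ = x
    rw [inv_eq_self_of_orderOf_two hu.1]
    calc u * (u * (x : G) * u) * u = (u * u) * x * (u * u) := by group
      _ = x := by rw [huu, one_mul, mul_one])
  set K := H₁.subgroupOf D with hKdef
  have hK : Cfsg.IsPiHall π K :=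
    ⟨by rw [Nat.card_congr (subgroupOfEquivOfLe hH₁.1).toEquiv]; exact hH₁.2.1, hH₁.2.2⟩
  have hKinv : ∀ x ∈ K, σ x ∈ K := fun x hx => mem_subgroupOf.2
    ((Subgroup.mem_normalizer_iff.1 (hH₁n (mem_zpowers u)) _).1 (mem_subgroupOf.1 hx))
  have hKcop : (Nat.card K).Coprime (Nat.card ↥(D ⊓ Subgroup.centralizer ({u} : Set G))) := by
    refine Nat.coprime_of_dvd fun r hr h1 h2 => hr.not_dvd_one ?_
    exact hcop ▸ Nat.dvd_gcd (hK.1 r hr h1) h2
  -- no nontrivial element of `K` is fixed
  have hfix : ∀ x ∈ K, σ x = x → x = 1 := by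
    intro x hx hσ
    have hc : (x : G) ∈ D ⊓ Subgroup.centralizer ({u} : Set G) :=
      ⟨x.2, mem_centralizer_singleton_iff.2
        (mul_inv_eq_iff_eq_mul.1 (congrArg Subtype.val hσ)).symm⟩
    have h1 : orderOf x ∣ Nat.card K := Subgroup.orderOf_dvd_natCard K hx
    have h2 : orderOf x ∣ Nat.card ↥(D ⊓ Subgroup.centralizer ({u} : Set G)) := by
      rw [← Subgroup.orderOf_coe]; exact Subgroup.orderOf_dvd_natCard _ hc
    exact orderOf_eq_one_iff.1 (Nat.eq_one_of_dvd_coprimes hKcop h1 h2)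
  have hinvK : ∀ x ∈ K, σ x = x⁻¹ := by
    intro x hx
    let f : K → K := fun z => ⟨(z : D)⁻¹ * σ z, mul_mem (inv_mem z.2) (hKinv z z.2)⟩
    have hf : Function.Injective f := by
      intro y z e
      have e' : (y : D)⁻¹ * σ y = (z : D)⁻¹ * σ z := congrArg Subtype.val e
      have h3 := hfix ((z : D) * (y : D)⁻¹) (mul_mem z.2 (inv_mem y.2)) (by
        rw [map_mul, map_inv]
        calc σ (z : D) * (σ (y : D))⁻¹ = (z : D) * ((z : D)⁻¹ * σ z) * (σ (y : D))⁻¹ := by group
          _ = (z : D) * (y : D)⁻¹ := by rw [← e']; group)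
      exact (Subtype.ext (mul_inv_eq_one.1 h3)).symm
    obtain ⟨⟨z, hz⟩, e⟩ := Finite.injective_iff_surjective.1 hf ⟨x, hx⟩
    have e' : z⁻¹ * σ z = x := congrArg Subtype.val e
    rw [← e', map_mul, map_inv, mul_inv_rev, inv_inv, show σ (σ z) = z from hσσ z]
  set H := K.map D.subtype with hH
  have hle : ∀ d ∈ H, d ∈ D ∧ u * d * u⁻¹ = d⁻¹ := by
    rintro _ ⟨x, hx, rfl⟩
    exact ⟨x.2, congrArg Subtype.val (hinvK x hx)⟩
  have hcardK : m ∣ Nat.card K := by
    have hD' : m ∣ Nat.card K * K.index :=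
      Subgroup.card_mul_index K ▸ (card_pairStab_eq h hab hu ▸ dvd_mul_right m _)
    refine Nat.Coprime.dvd_of_dvd_mul_right ?_ hD'
    refine Nat.coprime_of_dvd fun r hr h1 h2 => hK.2 r hr h1 h2
  refine ⟨H, fun d => ⟨hle d, fun hd => ?_⟩⟩
  let f : H → {d : G // d ∈ D ∧ u * d * u⁻¹ = d⁻¹} := fun x => ⟨x, hle x x.2⟩
  have hf : Function.Injective f := fun x y e => Subtype.ext (congrArg Subtype.val e :)
  have hcH : Nat.card H = Nat.card K := Subgroup.card_map_of_injective D.subtype_injective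
  have hc : Nat.card H = Nat.card {d : G // d ∈ D ∧ u * d * u⁻¹ = d⁻¹} :=
    le_antisymm (Nat.card_le_card_of_injective f hf) (by
      rw [card_inverted h hab hu, hcH]
      exact Nat.le_of_dvd Nat.card_pos hcardK)
  obtain ⟨x, hx⟩ := ((Nat.bijective_iff_injective_and_card f).2 ⟨hf, hc⟩).2 ⟨d, hd⟩
  have hxd : (x : G) = d := congrArg Subtype.val hx
  exact hxd ▸ x.2

theorem mem_core_iff {a b : Ω} (hab : a ≠ b) {u : G} (hu : u ∈ invMap (G := G) a b) {d : G} :
    d ∈ core G a b ↔ d ∈ pairStab G a b ∧ u * d * u⁻¹ = d⁻¹ := by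
  obtain ⟨H, hH⟩ := exists_inverted_subgroup h hab hu
  have huu := mul_self_of_orderOf_two hu.1
  have hj : ∀ j ∈ invMap (G := G) a b, u * j ∈ H := fun j hj => (hH _).2 ⟨swap_mul_mem h hu hj, by
    rw [mul_inv_rev, inv_eq_self_of_orderOf_two hu.1, inv_eq_self_of_orderOf_two hj.1, ← mul_assoc,
      huu, one_mul]⟩
  have heq : core G a b = H := by
    refine le_antisymm ((closure_le _).2 ?_) fun d hd => ?_
    · rintro _ ⟨i, hi, j, hj', rfl⟩
      have h1 : (u * i)⁻¹ * (u * j) = i * j := by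
        rw [mul_inv_rev, inv_eq_self_of_orderOf_two hu.1, inv_eq_self_of_orderOf_two hi.1]
        calc i * u * (u * j) = i * (u * u) * j := by group
          _ = i * j := by rw [huu, mul_one]
      exact h1 ▸ mul_mem (inv_mem (hj i hi)) (hj j hj')
    · obtain ⟨hdD, hdu⟩ := (hH d).1 hd
      refine Subgroup.subset_closure ⟨u, hu, u * d, ⟨orderOf_eq_two_iff_sq.2 ⟨fun h1 => ?_, ?_⟩,
        by rw [mul_smul, (mem_pairStab.1 hdD).1, hu.2]⟩, by rw [← mul_assoc, huu, one_mul]⟩
      · have : u = d⁻¹ := eq_inv_of_mul_eq_one_left h1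
        exact hab ((mem_pairStab.1 (this ▸ inv_mem hdD : u ∈ pairStab G a b)).1.symm.trans hu.2)
      · calc u * d * (u * d) = (u * d * u⁻¹) * (u * u) * d := by group
          _ = 1 := by rw [hdu, huu, mul_one, inv_mul_cancel]
  rw [heq]; exact hH d

theorem card_core {a b : Ω} (hab : a ≠ b) :
    Nat.card (core G a b) = Nat.card (invMap (G := G) a a) := by
  obtain ⟨u, hu⟩ := exists_swap h hab
  rw [← card_inverted h hab hu]
  exact Nat.card_congr (Equiv.subtypeEquivRight fun d => mem_core_iff h hab hu)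

theorem swap_inverts_core {a b : Ω} (hab : a ≠ b) {u k : G} (hu : u ∈ invMap (G := G) a b)
    (hk : k ∈ core G a b) : u * k * u⁻¹ = k⁻¹ := ((mem_core_iff h hab hu).1 hk).2

theorem core_commute {a b : Ω} (hab : a ≠ b) {k l : G} (hk : k ∈ core G a b)
    (hl : l ∈ core G a b) : Commute k l := by
  obtain ⟨u, hu⟩ := exists_swap h hab
  have key := swap_inverts_core h hab hu (mul_mem hl hk)
  rw [show u * (l * k) * u⁻¹ = (u * l * u⁻¹) * (u * k * u⁻¹) by group,
    swap_inverts_core h hab hu hl, swap_inverts_core h hab hu hk, ← mul_inv_rev] at key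
  exact inv_injective key

theorem odd_orderOf_core {a b : Ω} (hab : a ≠ b) {k : G} (hk : k ∈ core G a b) :
    Odd (orderOf k) :=
  (odd_pairStab h.uf hab).of_dvd_nat (Subgroup.orderOf_dvd_natCard _ (core_le h a b hk))

/-- A nontrivial element of `core a b` commutes with no involution. -/
theorem core_eq_one {a b : Ω} (hab : a ≠ b) {k t : G} (hk : k ∈ core G a b)
    (ht : orderOf t = 2) (hc : Commute k t) : k = 1 := by
  obtain ⟨u, hu⟩ := exists_swap h hab
  exact h.dual.eq_one hu.1 (swap_inverts_core h hab hu hk) (odd_orderOf_core h hab hk) ht hc.symm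

/-- `D = core a b · C_D(u)`. -/
theorem exists_core_mul {a b : Ω} (hab : a ≠ b) {u d : G} (hu : u ∈ invMap (G := G) a b)
    (hd : d ∈ pairStab G a b) :
    ∃ k ∈ core G a b, ∃ x ∈ pairStab G a b, Commute x u ∧ d = k * x := by
  set X := pairStab G a b ⊓ Subgroup.centralizer ({u} : Set G) with hX
  let f : core G a b × X → pairStab G a b := fun p =>
    ⟨p.1 * p.2, mul_mem (core_le h a b p.1.2) p.2.2.1⟩
  have hf : Function.Injective f := by
    rintro ⟨k, x⟩ ⟨k', x'⟩ e
    have e' : (k : G) * x = k' * x' := congrArg Subtype.val e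
    have h1 : (k' : G)⁻¹ * k = x' * (x : G)⁻¹ := by
      rw [eq_mul_inv_iff_mul_eq, mul_assoc, e', inv_mul_cancel_left]
    have h2 : (k' : G)⁻¹ * k = 1 := core_eq_one h hab (mul_mem (inv_mem k'.2) k.2) hu.1
      (h1 ▸ mem_centralizer_singleton_iff.1 (mul_mem x'.2 (inv_mem x.2)).2)
    have hk : k' = k := Subtype.ext (inv_mul_eq_one.1 h2)
    subst hk
    exact Prod.ext rfl (Subtype.ext (mul_left_cancel e'))
  have hcard : Nat.card (core G a b × X) = Nat.card (pairStab G a b) := by
    rw [Nat.card_prod, card_core h hab, card_pairStab_eq h hab hu]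
  obtain ⟨⟨k, x⟩, e⟩ := ((Nat.bijective_iff_injective_and_card f).2 ⟨hf, hcard⟩).2 ⟨d, hd⟩
  exact ⟨k, k.2, x, x.2.1, mem_centralizer_singleton_iff.1 x.2.2, (congrArg Subtype.val e).symm⟩

theorem mem_core_of_orderOf_dvd {a b : Ω} (hab : a ≠ b) {d : G} (hd : d ∈ pairStab G a b)
    (ho : orderOf d ∣ Nat.card (invMap (G := G) a a)) : d ∈ core G a b := by
  obtain ⟨u, hu⟩ := exists_swap h hab
  set K := (core G a b).subgroupOf (pairStab G a b) with hK
  haveI : K.Normal := ⟨fun k hk g => mem_subgroupOf.2 (conj_mem_core h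
    (mem_pairStab.1 g.2).1 (mem_pairStab.1 g.2).2 (mem_subgroupOf.1 hk))⟩
  have hidx : K.index = Nat.card ↥(pairStab G a b ⊓ Subgroup.centralizer ({u} : Set G)) := by
    have h1 := Subgroup.card_mul_index K
    rw [Nat.card_congr (subgroupOfEquivOfLe (core_le h a b)).toEquiv, card_core h hab,
      card_pairStab_eq h hab hu] at h1
    exact Nat.eq_of_mul_eq_mul_left (by have := h.three_le a; omega) h1
  have hpow := mem_subgroupOf.1 (K.pow_index_mem ⟨d, hd⟩)
  rw [Subgroup.coe_pow] at hpow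
  have hcop : (orderOf d).Coprime K.index := by
    rw [hidx]
    exact Nat.Coprime.coprime_dvd_left ho (coprime_card h hab hu.1
      fun x hx => (mem_centralizer_singleton_iff.1 hx.2).symm)
  exact zpowers_le.2 hpow (mem_zpowers_pow_iff.2 (hcop.symm))

/-- A nontrivial element of `core a b` fixes only `a` and `b`. -/
theorem fix_core {a b : Ω} (hab : a ≠ b) {k : G} (hk : k ∈ core G a b) (hk1 : k ≠ 1) {z : Ω}
    (hz : k • z = z) : z = a ∨ z = b := by
  by_contra hc
  push Not at hc
  haveI := finite_points h.uf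
  set F := {w : Ω | k • w = w} with hF
  have haF : a ∈ F := (mem_pairStab.1 (core_le h a b hk)).1
  have hbF : b ∈ F := (mem_pairStab.1 (core_le h a b hk)).2
  have ho : ∀ x : Ω, orderOf k ∣ Nat.card (invMap (G := G) x x) := fun x => by
    rw [card_invMap_self h.uf x a, ← card_core h hab]
    exact Subgroup.orderOf_dvd_natCard _ hk
  have hmem : ∀ x ∈ F, ∀ y ∈ F, x ≠ y → ∃ v ∈ invMap (G := G) x y, v * k * v⁻¹ = k⁻¹ := by
    intro x hx y hy hxy
    obtain ⟨v, hv⟩ := exists_swap h hxy
    exact ⟨v, hv, swap_inverts_core h hxy hv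
      (mem_core_of_orderOf_dvd h hxy (mem_pairStab.2 ⟨hx, hy⟩) (ho x))⟩
  set C := Subgroup.centralizer ({k} : Set G) with hC
  have hCodd : Odd (Nat.card C) := by
    by_contra hodd
    obtain ⟨t, ht, hto⟩ := exists_invol_mem (Nat.not_odd_iff_even.1 hodd)
    exact hk1 (core_eq_one h hab hk hto (mem_centralizer_singleton_iff.1 ht).symm)
  -- `C` is transitive on `F`
  have htr : ∀ x ∈ F, ∀ y ∈ F, x ≠ y → ∀ w ∈ F, w ≠ x → w ≠ y → ∃ g ∈ C, g • x = y := by
    intro x hx y hy hxy w hw hwx hwy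
    obtain ⟨v₁, hv₁, e₁⟩ := hmem x hx w hw hwx.symm
    obtain ⟨v₂, hv₂, e₂⟩ := hmem w hw y hy hwy
    refine ⟨v₂ * v₁, mem_centralizer_singleton_iff.2 (mul_inv_eq_iff_eq_mul.1 ?_),
      by rw [mul_smul, hv₁.2, hv₂.2]⟩
    rw [show v₂ * v₁ * k * (v₂ * v₁)⁻¹ = v₂ * (v₁ * k * v₁⁻¹) * v₂⁻¹ by group, e₁]
    calc v₂ * k⁻¹ * v₂⁻¹ = (v₂ * k * v₂⁻¹)⁻¹ := by group
      _ = k := by rw [e₂, inv_inv]
  have horb : F = MulAction.orbit C a := by
    refine Set.Subset.antisymm (fun y hy => ?_) ?_
    · by_cases hya : a = y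
      · exact hya ▸ MulAction.mem_orbit_self a
      · by_cases hyb : y = b
        · obtain ⟨g, hg, e⟩ := htr a haF y hy hya z hz hc.1 (hyb ▸ hc.2)
          exact ⟨⟨g, hg⟩, e⟩
        · obtain ⟨g, hg, e⟩ := htr a haF y hy hya b hbF hab.symm (Ne.symm hyb)
          exact ⟨⟨g, hg⟩, e⟩
    · rintro _ ⟨g, rfl⟩
      show k • (g : G) • a = (g : G) • a
      rw [smul_smul, ← (mem_centralizer_singleton_iff.1 g.2), mul_smul, haF]
  have hFodd : Odd (Nat.card F) := by
    rw [horb, Nat.card_coe_set_eq, ← MulAction.index_stabilizer]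
    exact hCodd.of_dvd_nat (Subgroup.index_dvd_card _)
  obtain ⟨u, hu⟩ := exists_swap h hab
  have hinv := swap_inverts_core h hab hu hk
  have huF : ∀ w ∈ F, u • w ∈ F := fun w hw => by
    show k • u • w = u • w
    rw [smul_smul, show k * u = u * (u⁻¹ * k * u) by group, mul_smul]
    congr 1
    rw [inv_eq_self_of_orderOf_two hu.1] at hinv ⊢
    rw [hinv, inv_smul_eq_iff]
    exact hw.symm
  obtain ⟨⟨w, hw⟩, hwfix⟩ := exists_fixed_of_involutive hFodd
    (f := fun w : F => ⟨u • (w : Ω), huF w w.2⟩)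
    (fun w => Subtype.ext (by
      show u • u • (w : Ω) = w
      rw [smul_smul, mul_self_of_orderOf_two hu.1, one_smul]))
  have huw : u ∈ eAt G w := (mem_eAt_iff h).2 (Or.inr ⟨hu.1, congrArg Subtype.val hwfix⟩)
  have hsq := eAt_sq h (mul_mem huw (conj_mem_eAt h hw huw))
  have hprod : u * (k * u * k⁻¹) = k⁻¹ * k⁻¹ := by
    rw [inv_eq_self_of_orderOf_two hu.1] at hinv
    rw [← hinv]; group
  rw [hprod] at hsq
  obtain ⟨j, hj⟩ := odd_orderOf_core h hab hk
  have h4 : k ^ 4 = 1 := by
    rw [← inv_inj, ← inv_pow, inv_one, ← hsq]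
    simp [pow_succ, mul_assoc]
  have hd4 : orderOf k ∣ 4 := orderOf_dvd_of_pow_eq_one h4
  have : orderOf k = 1 := by
    have := Nat.le_of_dvd (by norm_num) hd4
    interval_cases h5 : orderOf k <;> omega
  exact hk1 (orderOf_eq_one_iff.1 this)

theorem card_stabilizer {a : Ω} {t : G} (ht : t ∈ invMap (G := G) a a) :
    Nat.card (MulAction.stabilizer G a) =
      Nat.card (invMap (G := G) a a) * Nat.card (Subgroup.centralizer ({t} : Set G)) := by
  haveI := h.nontriv
  obtain ⟨b, hb⟩ := exists_ne a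
  have := InvCentAbelian.card_eq_mul_of_transitive (MulAction.stabilizer G a) ht
    (fun g hg => conj_mem_invMap hg ht) fun s hs => by
      obtain ⟨d, hd, e⟩ := exists_conj_fix h.uf hb.symm ht hs
      exact ⟨d, (mem_pairStab.1 hd).1, e⟩
  rwa [inf_eq_right.2 (centralizer_le_stabilizer h.uf ht)] at this

/-- The point stabilizer is transitive on the other points. -/
theorem exists_stab_smul {a b c : Ω} (hb : a ≠ b) (hc : a ≠ c) :
    ∃ g : G, g • a = a ∧ g • b = c := by
  set M := MulAction.stabilizer G a with hM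
  haveI : Group.IsSolvable M := isSolvable_stabilizer h a
  obtain ⟨t, ht⟩ := h.uf.exists_inv a
  have hle : ∀ w : Ω, core G a w ≤ M := fun w g hg => (mem_pairStab.1 (core_le h a w hg)).1
  set π : Set ℕ := {p | p ∣ Nat.card (invMap (G := G) a a)} with hπ
  have hhall : ∀ w : Ω, a ≠ w → Cfsg.IsPiHall π ((core G a w).subgroupOf M) := by
    intro w hw
    have hcard : Nat.card ((core G a w).subgroupOf M) = Nat.card (invMap (G := G) a a) := by
      rw [Nat.card_congr (subgroupOfEquivOfLe (hle w)).toEquiv, card_core h hw]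
    refine ⟨fun p _ hp => by rw [hcard] at hp; exact hp, fun p hp hpπ hdvd => ?_⟩
    have hidx : ((core G a w).subgroupOf M).index =
        Nat.card (Subgroup.centralizer ({t} : Set G)) := by
      have h1 := Subgroup.card_mul_index ((core G a w).subgroupOf M)
      rw [hcard, card_stabilizer h ht] at h1
      exact Nat.eq_of_mul_eq_mul_left (by have := h.three_le a; omega) h1
    rw [hidx] at hdvd
    exact hp.not_dvd_one ((coprime_centralizer h hw ht.1) ▸ Nat.dvd_gcd hpπ hdvd)
  obtain ⟨g, hg⟩ := CfsgLib.Solvable.exists_conj_eq_isPiHall (hhall b hb) (hhall c hc)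
  obtain ⟨k, hk, hk1⟩ : ∃ k ∈ core G a b, k ≠ 1 := by
    by_contra hno
    push Not at hno
    have := card_core h hb
    rw [Subgroup.card_eq_one.2 ((eq_bot_iff_forall _).2 hno)] at this
    have := h.three_le a
    omega
  have hk' : (g : G) * k * (g : G)⁻¹ ∈ core G a c := by
    have := Subgroup.smul_mem_pointwise_smul (⟨k, hle b hk⟩ : M) (MulAut.conj g)
      ((core G a b).subgroupOf M) (mem_subgroupOf.2 hk)
    rw [hg] at this
    exact mem_subgroupOf.1 this
  have hfix : ((g : G) * k * (g : G)⁻¹) • ((g : G) • b) = (g : G) • b := by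
    rw [smul_smul, inv_mul_cancel_right, mul_smul, (mem_pairStab.1 (core_le h a b hk)).2]
  refine ⟨g, g.2, ?_⟩
  rcases fix_core h hc hk' (fun e => hk1 (by rwa [mul_inv_eq_one, mul_eq_left] at e)) hfix with
    e | e
  · exact absurd (smul_left_cancel (g : G) ((show (g : G) • a = a from g.2).trans e.symm)) hb
  · exact e

end CfsgLib.DualFree
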