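import Cfsg.Agent.DualFree.Frobenius
import Cfsg.Agent.Solvable.Basic

/-!
# The structure theorem

A group without a prime both inverted and centralised, with elementary abelian Sylow 2-subgroups and
trivial odd core: a Sylow 2-subgroup is normal or lies in a simple normal subgroup with trivial
centralizer and elementary abelian involution centralizers.
-/

set_option autoImplicit false
set_option linter.style.haveILetI false
set_option linter.unusedSectionVars false

namespace CfsgLib.DualFree

open CfsgLib.Small CfsgLib.SEmbed Subgroup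
open scoped Pointwise

variable {G : Type*} [Group G] [Finite G]

theorem elemCentralizers_equiv {A B : Type*} [Group A] [Finite A] [Group B] [Finite B] (f : A ≃* B)
    (h : ∀ P : Sylow 2 A, ElemCentralizers P) (Q : Sylow 2 B) : ElemCentralizers Q := by
  set P : Sylow 2 A := Q.comapOfInjective f.toMonoidHom f.injective
    (fun x _ => ⟨f.symm x, f.apply_symm_apply x⟩) with hP
  have hmem : ∀ x, x ∈ (P : Subgroup A) ↔ f x ∈ (Q : Subgroup B) := fun x => Iff.rfl
  refine ⟨fun hc => (h P).not_cyclic ?_, fun hn => (h P).not_normal ?_, fun t ht => ?_⟩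
  · haveI := hc
    let g : (P : Subgroup A) →* (Q : Subgroup B) :=
      (f.toMonoidHom.comp (P : Subgroup A).subtype).codRestrict _ fun x => (hmem x).1 x.2
    exact isCyclic_of_injective g fun x y e =>
      Subtype.ext (f.injective (congrArg Subtype.val e :))
  · exact ⟨fun x hx a => (hmem _).2 (by simpa using hn.conj_mem _ ((hmem x).1 hx) (f a))⟩
  · obtain ⟨hc, h2⟩ := (h P).centralizer (f.symm t) (by rw [f.symm.orderOf_eq, ht])
    have hback : ∀ c ∈ Subgroup.centralizer ({t} : Set B),
        f.symm c ∈ Subgroup.centralizer ({f.symm t} : Set A) := fun c hc' =>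
      mem_centralizer_singleton_iff.2 (by
        rw [← map_mul, ← map_mul, mem_centralizer_singleton_iff.1 hc'])
    refine ⟨⟨⟨fun a b => Subtype.ext (f.symm.injective ?_)⟩⟩, fun c hc' => f.symm.injective ?_⟩
    · rw [Subgroup.coe_mul, Subgroup.coe_mul, map_mul, map_mul]
      exact congrArg Subtype.val (hc.is_comm.comm ⟨_, hback a a.2⟩ ⟨_, hback b b.2⟩)
    · rw [map_pow, map_one]
      exact h2 _ (hback c hc')

/-- In a normal subgroup the odd core is trivial if it is in the whole group. -/
theorem oddCore_eq_bot_of_normal (hO : Cfsg.oddCore G = ⊥) (N : Subgroup G) [N.Normal] :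
    Cfsg.oddCore N = ⊥ := by
  set K := (Cfsg.oddCore N).map N.subtype with hK
  have hKodd : Odd (Nat.card K) := by
    rw [card_map_of_injective N.subtype_injective]
    exact CfsgLib.ExtremelyClosed.odd_card_oddCore' N
  have hKn : K.Normal := by
    refine ⟨?_⟩
    rintro _ ⟨x, hx, rfl⟩ g
    let φ : N ≃* N := MulAut.conjNormal g
    have h1 : ((Cfsg.oddCore N).map φ.toMonoidHom).Normal :=
      Subgroup.Normal.map inferInstance _ φ.surjective
    have h2 := CfsgLib.ExtremelyClosed.le_oddCore_of_odd h1 (by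
      rw [Subgroup.card_map_of_injective (f := φ.toMonoidHom) φ.injective]
      exact CfsgLib.ExtremelyClosed.odd_card_oddCore' N) ⟨x, hx, rfl⟩
    exact ⟨_, h2, MulAut.conjNormal_apply g x⟩
  have h3 := CfsgLib.ExtremelyClosed.le_oddCore_of_odd hKn hKodd
  rw [hO, le_bot_iff] at h3
  exact (Subgroup.map_eq_bot_iff_of_injective _ N.subtype_injective).1 h3

theorem normal_le_sylow {p : ℕ} [Fact p.Prime] {N : Subgroup G} [N.Normal] (hN : IsPGroup p N)
    (E : Sylow p G) : N ≤ (E : Subgroup G) := by
  rw [← E.is_maximal' (hN.to_sup_of_normal_left E.isPGroup') le_sup_right]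
  exact le_sup_left

/-- Without inverted odd primes a Sylow 2-subgroup of exponent 2 is normal. -/
theorem normal_of_not_inverted (E : Sylow 2 G) (hsq : ∀ e ∈ (E : Subgroup G), e * e = 1)
    (hni : ∀ r : ℕ, r.Prime → r ≠ 2 → ¬ Inverted G r) : (E : Subgroup G).Normal := by
  haveI : Fact (Nat.Prime 2) := ⟨Nat.prime_two⟩
  refine ⟨fun e he g => ?_⟩
  by_cases he1 : e = 1
  · subst he1; simp
  obtain ⟨N, hN, hN2, heN⟩ := exists_normal_two (orderOf_eq_two_iff_sq.2 ⟨he1, hsq e he⟩) hni
  exact normal_le_sylow hN2 E (hN.conj_mem e heN g)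

theorem commute_of_sq {H : Subgroup G} (hsq : ∀ e ∈ H, e * e = 1) {x y : G} (hx : x ∈ H)
    (hy : y ∈ H) : Commute x y := by
  have h1 := inv_eq_of_mul_eq_one_right (hsq _ (mul_mem hx hy))
  rw [mul_inv_rev, inv_eq_of_mul_eq_one_right (hsq x hx),
    inv_eq_of_mul_eq_one_right (hsq y hy)] at h1
  exact h1.symm

theorem sq_of_twoElementary (h2 : TwoElementary G) {H : Subgroup G} (hH : IsPGroup 2 H) :
    ∀ e ∈ H, e * e = 1 := fun e he => by
  obtain ⟨k, hk⟩ := hH ⟨e, he⟩
  exact h2 e ⟨k, by simpa using congrArg Subtype.val hk⟩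

/-- The involutions commuting with an involution of a Sylow 2-subgroup lie in it. -/
theorem invol_mem_sylow (hD : DualFree G) (h2 : TwoElementary G) (E : Sylow 2 G) {t i : G}
    (htE : t ∈ (E : Subgroup G)) (ht : orderOf t = 2) (hi : orderOf i = 2) (hc : Commute i t) :
    i ∈ (E : Subgroup G) := by
  haveI : Fact (Nat.Prime 2) := ⟨Nat.prime_two⟩
  set C := Subgroup.centralizer ({t} : Set G) with hC
  have hEC : (E : Subgroup G) ≤ C := fun e he => mem_centralizer_singleton_iff.2
    (commute_of_sq (sq_of_twoElementary h2 E.isPGroup') he htE).eq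
  have hiC : i ∈ C := mem_centralizer_singleton_iff.2 hc.eq
  obtain ⟨N, hN, hN2, hiN⟩ := exists_normal_two (G := C) (t := ⟨i, hiC⟩)
    (by rw [Subgroup.orderOf_mk, hi]) (not_inverted_centralizer hD ht)
  have hE' : IsPGroup 2 ((E : Subgroup G).subgroupOf C) :=
    E.isPGroup'.of_equiv (subgroupOfEquivOfLe hEC).symm
  have hsup := (hN2.to_sup_of_normal_left hE').map C.subtype
  rw [← E.is_maximal' hsup fun e he => ⟨⟨e, hEC he⟩, mem_sup_right (mem_subgroupOf.2 he), rfl⟩]
  exact ⟨⟨i, hiC⟩, mem_sup_left hiN, rfl⟩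

/-- The simple case. -/
theorem elemCentralizers_of_simple [IsSimpleGroup G] (hD : DualFree G) (h2 : TwoElementary G)
    (E : Sylow 2 G) (hcard : 4 ≤ Nat.card E) (hn : ¬ (E : Subgroup G).Normal)
    (hind : ∀ H : Subgroup G, H ≠ ⊤ → HasStructure (H ⧸ Cfsg.oddCore H)) :
    ∀ P : Sylow 2 G, ElemCentralizers P := by
  haveI : Fact (Nat.Prime 2) := ⟨Nat.prime_two⟩
  set M := normalizer ((E : Subgroup G) : Set G) with hM
  have hsq := sq_of_twoElementary h2 E.isPGroup'
  obtain ⟨t, htE, ht⟩ := exists_invol_mem (K := (E : Subgroup G)) (by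
    obtain ⟨k, hk⟩ := IsPGroup.iff_card.1 E.isPGroup'
    rw [hk, Nat.even_pow]
    refine ⟨even_two, fun h0 => ?_⟩
    rw [hk, h0] at hcard
    norm_num at hcard)
  have hinvE : ∀ {i : G}, orderOf i = 2 → i ∈ M → i ∈ (E : Subgroup G) :=
    fun hi hiM => invol_mem_of_mem_normalizer hi hiM
  have hne : M ≠ ⊤ := fun he => hn (Subgroup.normalizer_eq_top_iff.1 he)
  have hev : Even (Nat.card M) := by
    rw [even_iff_two_dvd, ← ht]
    exact Subgroup.orderOf_dvd_natCard _ (le_normalizer htE)
  have hSE : Cfsg.IsStronglyEmbedded M := by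
    rw [isStronglyEmbedded_iff hne hev]
    intro i hi hio g hg
    have hiE := hinvE hio hi
    have hjo : orderOf (g⁻¹ * i * g) = 2 := by
      have := orderOf_conj_eq g⁻¹ i
      rwa [inv_inv, hio] at this
    have hjE := hinvE hjo hg
    rw [hM, Subgroup.mem_normalizer_iff_map_conj_eq]
    refine eq_of_le_of_card_ge ?_ (by rw [card_map_of_injective (MulAut.conj g).injective])
    rintro _ ⟨e, he, rfl⟩
    show g * e * g⁻¹ ∈ (E : Subgroup G)
    by_cases he1 : e = 1
    · subst he1; simp
    refine invol_mem_sylow hD h2 E hiE hio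
      (by rw [orderOf_conj_eq]; exact orderOf_eq_two_iff_sq.2 ⟨he1, hsq e he⟩) ?_
    show g * e * g⁻¹ * i = i * (g * e * g⁻¹)
    calc g * e * g⁻¹ * i = g * (e * (g⁻¹ * i * g)) * g⁻¹ := by group
      _ = g * ((g⁻¹ * i * g) * e) * g⁻¹ := by rw [(commute_of_sq hsq he hjE).eq]
      _ = i * (g * e * g⁻¹) := by group
  have huf := uniqueFix hSE
  have hbase : ∀ {i : G}, i ∈ invMap (G := G) ((1 : G) : G ⧸ M) ((1 : G) : G ⧸ M) ↔
      i ∈ (E : Subgroup G) ∧ i ≠ 1 := fun {i} => by
    rw [invMap_one]
    exact ⟨fun hi => ⟨hinvE hi.1 hi.2, ne_one_of_orderOf_two hi.1⟩,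
      fun hi => ⟨orderOf_eq_two_iff_sq.2 ⟨hi.2, hsq i hi.1⟩, le_normalizer hi.1⟩⟩
  have hset : Setting G (G ⧸ M) := by
    refine ⟨huf, nontrivial_cosets hSE, hD, ?_, h2, ?_, inferInstance⟩
    · intro i j hi hj x hix hjx
      obtain ⟨g, rfl⟩ := QuotientGroup.mk_surjective x
      rw [smul_mk_eq_iff] at hix hjx
      have ho : ∀ {k : G}, orderOf k = 2 → orderOf (g⁻¹ * k * g) = 2 := fun {k} hk => by
        have := orderOf_conj_eq g⁻¹ k
        rwa [inv_inv, hk] at this
      have h1 := (commute_of_sq hsq (hinvE (ho hi) hix) (hinvE (ho hj) hjx)).eq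
      show i * j = j * i
      calc i * j = g * ((g⁻¹ * i * g) * (g⁻¹ * j * g)) * g⁻¹ := by group
        _ = j * i := by rw [h1]; group
    · intro x
      rw [card_invMap_self huf x ((1 : G) : G ⧸ M)]
      have e : invMap (G := G) ((1 : G) : G ⧸ M) ((1 : G) : G ⧸ M) =
          ((E : Subgroup G) : Set G) \ {1} := by ext i; exact hbase
      rw [e, Nat.card_coe_set_eq, Set.ncard_diff_singleton_of_mem (one_mem (E : Subgroup G)),
        ← Nat.card_coe_set_eq]
      show 3 ≤ Nat.card E - 1
      omega
  intro P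
  refine ⟨fun hc => ?_, fun hPn => hn ?_, fun i hi => ?_⟩
  · haveI := hc
    have h4 : 4 ≤ Nat.card P := by rwa [P.card_eq_multiplicity, ← E.card_eq_multiplicity]
    obtain ⟨γ, hγ⟩ := IsCyclic.exists_generator (α := (P : Subgroup G))
    have h5 := orderOf_eq_card_of_forall_mem_zpowers hγ
    have h6 : orderOf γ ∣ 2 := orderOf_dvd_of_pow_eq_one (Subtype.ext (by
      rw [Subgroup.coe_pow, pow_two]; exact sq_of_twoElementary h2 P.isPGroup' γ γ.2))
    rw [h5] at h6
    have h7 := Nat.le_of_dvd two_pos h6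
    change Nat.card P ≤ 2 at h7
    omega
  · haveI := Sylow.unique_of_normal P hPn
    rwa [Subsingleton.elim E P]
  · obtain ⟨x, hx⟩ := huf.exists_fix i hi
    have e := centralizer_eq_eAt hset hind (a := x) (t := i) ⟨hi, hx⟩
    refine ⟨⟨⟨fun a b => Subtype.ext (eAt_comm hset (e.le a.2) (e.le b.2)).eq⟩⟩,
      fun c hc => by rw [pow_two]; exact eAt_sq hset (e.le hc)⟩

private theorem structure_aux : ∀ n : ℕ, ∀ (G : Type*) [Group G] [Finite G], Nat.card G < n →
    DualFree G → TwoElementary G → Cfsg.oddCore G = ⊥ → HasStructure G := by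
  intro n
  induction n with
  | zero => intro G _ _ hlt; omega
  | succ n ih =>
  intro G _ _ hlt hD h2 hO E
  classical
  haveI : Fact (Nat.Prime 2) := ⟨Nat.prime_two⟩
  by_cases hn : (E : Subgroup G).Normal
  · exact Or.inl hn
  refine Or.inr ?_
  have hsq := sq_of_twoElementary h2 E.isPGroup'
  have hsmall : ∀ H : Subgroup G, H ≠ ⊤ → Nat.card H < n := fun H hH => by
    have h1 : Nat.card H < Nat.card G :=
      lt_of_le_of_ne (Subgroup.card_le_card_group H) fun e => hH (Subgroup.eq_top_of_card_eq H e)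
    omega
  -- a Sylow subgroup of order at most two gives a normal complement
  have h4 : 4 ≤ Nat.card E := by
    by_contra hlt4
    obtain ⟨k, hk⟩ := IsPGroup.iff_card.1 E.isPGroup'
    have hk1 : k ≤ 1 := by
      by_contra hk2
      have := Nat.pow_le_pow_right two_pos (show 2 ≤ k by omega)
      change ¬ 4 ≤ Nat.card (E : Subgroup G) at hlt4
      omega
    haveI : IsCyclic (E : Subgroup G) := by
      interval_cases k
      · rw [pow_zero, Subgroup.card_eq_one] at hk
        rw [hk]; infer_instance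
      · exact isCyclic_of_prime_card (p := 2) (by rw [hk, pow_one])
    by_cases heven : 2 ∣ Nat.card G
    · have hmin : (Nat.card G).minFac = 2 := (Nat.minFac_eq_two_iff _).2 heven
      have hc := IsCyclic.isComplement' hmin (P := E) inferInstance
      set K := (MonoidHom.transferSylow E (IsCyclic.normalizer_le_centralizer hmin
        (P := E) inferInstance)).ker
      have hKodd : Odd (Nat.card K) := Nat.odd_iff.2 (by
        have h1 := E.not_dvd_index
        rw [hc.index_eq_card] at h1
        omega)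
      have := CfsgLib.ExtremelyClosed.le_oddCore_of_odd (N := K) inferInstance hKodd
      rw [hO, le_bot_iff] at this
      rw [this] at hc
      exact hn (isComplement'_bot_left.1 hc ▸ inferInstance)
    · have hE1 : k = 0 := by
        by_contra hk0
        exact heven ((hk ▸ dvd_pow_self 2 hk0).trans (Subgroup.card_subgroup_dvd_card _))
      rw [hE1, pow_zero, Subgroup.card_eq_one] at hk
      exact hn (hk ▸ inferInstance)
  haveI : Nontrivial G := by
    refine Finite.one_lt_card_iff_nontrivial.1 (lt_of_lt_of_le ?_ (Subgroup.card_le_card_group (E : Subgroup G)))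
    change 1 < Nat.card E
    omega
  by_cases hsimple : IsSimpleGroup G
  · have hall := elemCentralizers_of_simple hD h2 E h4 hn fun H hH => by
      refine ih (H ⧸ Cfsg.oddCore H) ?_ ((hD.subgroup H).quotient
        (CfsgLib.ExtremelyClosed.odd_card_oddCore' H)) ((h2.subgroup H).quotient
        (CfsgLib.ExtremelyClosed.odd_card_oddCore' H))
        (CfsgLib.PLocal.pPrimeCore_quotient_pPrimeCore_eq_bot 2 H)
      exact lt_of_le_of_lt (Nat.le_of_dvd Nat.card_pos (Subgroup.card_quotient_dvd_card _))
        (hsmall H hH)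
    refine ⟨⊤, inferInstance, ?_, le_top, ?_, fun P =>
      elemCentralizers_equiv Subgroup.topEquiv.symm hall P⟩
    · exact Subgroup.topEquiv.isSimpleGroup
    · rw [Subgroup.coe_top, Subgroup.centralizer_univ]
      rcases IsSimpleGroup.eq_bot_or_eq_top_of_normal (Subgroup.center G) inferInstance with h | h
      · exact h
      · exfalso
        refine hn ⟨fun e he g => ?_⟩
        rw [← Subgroup.mem_center_iff.1 (h ▸ Subgroup.mem_top g) e, mul_inv_cancel_right]
        exact he
  obtain ⟨N, hNn, hNne, hNmin⟩ := CfsgLib.Solvable.exists_minimal_normal (G := G)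
  haveI := hNn
  have hNtop : N ≠ ⊤ := by
    rintro rfl
    exact hsimple ⟨fun K hK => hNmin K hK le_top⟩
  by_cases hab : ∀ x ∈ N, ∀ y ∈ N, x * y = y * x
  · -- an abelian minimal normal subgroup
    exfalso
    have hN2 : IsPGroup 2 N := by
      let K : Subgroup G :=
        { carrier := {g | g ∈ N ∧ Odd (orderOf g)}
          one_mem' := ⟨one_mem N, by rw [orderOf_one]; exact odd_one⟩
          mul_mem' := fun {x y} hx hy => ⟨mul_mem hx.1 hy.1,
            (hx.2.mul hy.2).of_dvd_nat ((Commute.orderOf_mul_dvd_lcm (hab x hx.1 y hy.1)).trans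
              (Nat.lcm_dvd_mul _ _))⟩
          inv_mem' := fun {x} hx => ⟨inv_mem hx.1, by rw [orderOf_inv]; exact hx.2⟩ }
      have hKn : K.Normal := ⟨fun x hx g => ⟨hNn.conj_mem x hx.1 g,
        by rw [orderOf_conj_eq]; exact hx.2⟩⟩
      have hKodd : Odd (Nat.card K) := by
        by_contra hev
        obtain ⟨t, htK, ht⟩ := exists_invol_mem (Nat.not_odd_iff_even.1 hev)
        have := htK.2
        rw [ht] at this
        exact absurd this (by decide)
      have hK := CfsgLib.ExtremelyClosed.le_oddCore_of_odd hKn hKodd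
      rw [hO] at hK
      rintro ⟨g, hg⟩
      obtain ⟨i, j, e, ⟨k, hk⟩, hodd⟩ := exists_two_parts g
      have hj : g ^ j = 1 := Subgroup.mem_bot.1 (hK ⟨zpow_mem hg j, hodd⟩)
      rw [hj, mul_one] at e
      exact ⟨k, Subtype.ext (by rw [Subgroup.coe_pow, Subgroup.coe_mk, e]; exact hk)⟩
    have hNE : N ≤ (E : Subgroup G) := normal_le_sylow hN2 E
    set C := Subgroup.centralizer (N : Set G) with hC
    have hEC : (E : Subgroup G) ≤ C := fun e he => Subgroup.mem_centralizer_iff.2 fun x hx =>
      (commute_of_sq hsq (hNE hx) he).eq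
    by_cases hCtop : C = ⊤
    · obtain ⟨z, hzN, hz⟩ : ∃ z ∈ N, z ≠ 1 := N.bot_or_exists_ne_one.resolve_left hNne
      have hzo : orderOf z = 2 := orderOf_eq_two_iff_sq.2 ⟨hz, hsq z (hNE hzN)⟩
      refine hn (normal_of_not_inverted E hsq fun r hr hr2 hi => ?_)
      obtain ⟨x, -, hxo, -, -⟩ := id hi
      refine hD r hr hr2 hi ⟨x, z, hxo, hzo, ?_⟩
      exact Subgroup.mem_centralizer_iff.1 (show x ∈ C by rw [hCtop]; exact Subgroup.mem_top x) z hzN
    · haveI : C.Normal := Subgroup.normal_centralizer
      rcases ih C (hsmall C hCtop) (hD.subgroup C) (h2.subgroup C) (oddCore_eq_bot_of_normal hO C)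
          (E.subtype hEC) with hEn | ⟨S, -, -, -, hScent, -⟩
      · haveI : ((E.subtype hEC : Sylow 2 C) : Subgroup C).Characteristic :=
          Sylow.characteristic_of_normal _ hEn
        have := ConjAct.normal_of_characteristic_of_normal
          (H := C) (K := ((E.subtype hEC : Sylow 2 C) : Subgroup C))
        rw [Sylow.coe_subtype, Subgroup.map_subgroupOf_eq_of_le hEC] at this
        exact hn this
      · obtain ⟨z, hzN, hz⟩ : ∃ z ∈ N, z ≠ 1 := N.bot_or_exists_ne_one.resolve_left hNne
        have hzC : z ∈ C := hEC (hNE hzN)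
        have : (⟨z, hzC⟩ : C) ∈ Subgroup.centralizer (S : Set C) :=
          Subgroup.mem_centralizer_iff.2 fun s _ => Subtype.ext
            (Subgroup.mem_centralizer_iff.1 s.2 z hzN).symm
        rw [hScent, Subgroup.mem_bot] at this
        exact hz (congrArg Subtype.val this)
  -- a nonabelian minimal normal subgroup
  set EN := (E : Subgroup G).subgroupOf N with hEN
  have hENle : ∀ x : N, x ∈ EN ↔ (x : G) ∈ (E : Subgroup G) := fun x => mem_subgroupOf
  have hENp : IsPGroup 2 EN := fun x => by
    obtain ⟨k, hk⟩ := E.isPGroup' ⟨(x : N), (hENle x).1 x.2⟩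
    exact ⟨k, Subtype.ext (Subtype.ext (by
      simpa using congrArg (fun z : (E : Subgroup G) => (z : G)) hk))⟩
  set P : Sylow 2 N := hENp.toSylow (by
    intro hd
    refine E.not_dvd_index (hd.trans ?_)
    show (E : Subgroup G).relIndex N ∣ _
    rw [← Cfsg.Agent.S3745.relIndex_sup_eq (N := N) (H := (E : Subgroup G))
      (by rw [Subgroup.normalizer_eq_top_iff.2 hNn]; exact le_top)]
    exact Subgroup.relIndex_dvd_index_of_le le_sup_right) with hP
  have hPco : (P : Subgroup N) = EN := rfl
  have hON := oddCore_eq_bot_of_normal hO N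
  have hnotnormal : ¬ (P : Subgroup N).Normal := by
    intro hPn
    haveI : (P : Subgroup N).Characteristic := Sylow.characteristic_of_normal _ hPn
    haveI hPn' := ConjAct.normal_of_characteristic_of_normal (H := N) (K := (P : Subgroup N))
    rcases hNmin _ hPn' (map_subtype_le _) with h | h
    · rw [Subgroup.map_eq_bot_iff_of_injective _ N.subtype_injective] at h
      have hNodd : Odd (Nat.card N) := Nat.odd_iff.2 (by
        have h1 := P.not_dvd_index
        have h3 := Subgroup.card_mul_index (P : Subgroup N)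
        rw [h, Subgroup.card_bot, one_mul] at h3
        rw [h, h3] at h1
        omega)
      have := CfsgLib.ExtremelyClosed.le_oddCore_of_odd hNn hNodd
      rw [hO, le_bot_iff] at this
      exact hNne this
    · refine hab fun x hx y hy => ?_
      rw [← h] at hx hy
      obtain ⟨x', hx', rfl⟩ := hx
      obtain ⟨y', hy', rfl⟩ := hy
      exact (commute_of_sq hsq ((hENle x').1 hx') ((hENle y').1 hy')).eq
  rcases ih N (hsmall N hNtop) (hD.subgroup N) (h2.subgroup N) hON P with h | ⟨S, hSn, hSs, hPS, -, hSP⟩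
  · exact absurd h hnotnormal
  have hall : ∀ R : Sylow 2 N, (R : Subgroup N) ≤ S := fun R => by
    obtain ⟨g, rfl⟩ := MulAction.exists_smul_eq N P R
    exact (Subgroup.pointwise_smul_le_pointwise_smul_iff.2 hPS).trans
      (Subgroup.Normal.conj_smul_eq_self g S).le
  have hPne : (P : Subgroup N) ≠ ⊥ := fun e => hnotnormal (e ▸ inferInstance)
  have hStop : S = ⊤ := by
    have hSG : (S.map N.subtype).Normal := by
      refine ⟨?_⟩
      rintro _ ⟨x, hx, rfl⟩ g
      let φ : N ≃* N := MulAut.conjNormal g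
      set S' := S.map φ.toMonoidHom with hS'
      haveI : IsSimpleGroup S' := (S.equivMapOfInjective φ.toMonoidHom φ.injective).symm.isSimpleGroup
      have hPS' : (P : Subgroup N).map φ.toMonoidHom ≤ S' := Subgroup.map_mono hPS
      obtain ⟨R, hR⟩ := (P.isPGroup'.map φ.toMonoidHom).exists_le_sylow
      have hK : (S.subgroupOf S').Normal := ⟨fun z hz w =>
        mem_subgroupOf.2 (hSn.conj_mem _ (mem_subgroupOf.1 hz) _)⟩
      rcases IsSimpleGroup.eq_bot_or_eq_top_of_normal _ hK with h | h
      · exfalso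
        apply hPne
        rw [← Subgroup.map_eq_bot_iff_of_injective _ φ.injective, eq_bot_iff]
        intro z hz
        have : (⟨z, hPS' hz⟩ : S') ∈ S.subgroupOf S' := mem_subgroupOf.2 (hall R (hR hz))
        rw [h, Subgroup.mem_bot] at this
        exact Subgroup.mem_bot.2 (congrArg Subtype.val this)
      · exact ⟨φ x, Subgroup.subgroupOf_eq_top.1 h ⟨x, hx, rfl⟩, MulAut.conjNormal_apply g x⟩
    rcases hNmin _ hSG (map_subtype_le _) with h | h
    · rw [Subgroup.map_eq_bot_iff_of_injective _ N.subtype_injective] at h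
      exact absurd (le_bot_iff.1 (h ▸ hPS)) hPne
    · refine (Subgroup.eq_top_iff' S).2 fun x => ?_
      have : (x : G) ∈ S.map N.subtype := h.symm ▸ x.2
      obtain ⟨y, hy, e⟩ := this
      rwa [← Subtype.ext e]
  subst hStop
  haveI hNs : IsSimpleGroup N := Subgroup.topEquiv.symm.isSimpleGroup
  have hNP : ∀ R : Sylow 2 N, ElemCentralizers R := fun R =>
    elemCentralizers_equiv Subgroup.topEquiv hSP R
  have hcent : Subgroup.centralizer (N : Set G) = ⊥ := by
    haveI : (Subgroup.centralizer (N : Set G)).Normal := Subgroup.normal_centralizer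
    by_contra hne
    by_cases hodd : Odd (Nat.card (Subgroup.centralizer (N : Set G)))
    · have := CfsgLib.ExtremelyClosed.le_oddCore_of_odd
        (N := Subgroup.centralizer (N : Set G)) inferInstance hodd
      rw [hO, le_bot_iff] at this
      exact hne this
    obtain ⟨s, hs, hso⟩ := exists_invol_mem (Nat.not_odd_iff_even.1 hodd)
    obtain ⟨r, hr, hr2, hrd⟩ : ∃ r : ℕ, r.Prime ∧ r ≠ 2 ∧ r ∣ Nat.card N := by
      by_contra hno
      push Not at hno
      have hp2 : IsPGroup 2 N := IsPGroup.of_card (n := (Nat.card N).primeFactorsList.length)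
        (Nat.eq_prime_pow_of_unique_prime_dvd Nat.card_pos.ne'
          fun {d} hd hdd => by_contra fun hne => hno d hd hne hdd)
      refine hab fun x hx y hy => (commute_of_sq (sq_of_twoElementary h2 hp2) hx hy).eq
    obtain ⟨x, t, hxo, hto, hinv⟩ := inverted_of_prime_dvd (hNP P) hr hr2 hrd
    refine hD r hr hr2 ⟨x, t, by rw [Subgroup.orderOf_coe, hxo], by rw [Subgroup.orderOf_coe, hto],
      by simpa using congrArg Subtype.val hinv⟩ ⟨x, s, by rw [Subgroup.orderOf_coe, hxo], hso, ?_⟩
    exact (Subgroup.mem_centralizer_iff.1 hs x x.2).symm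
  have hEN' : (E : Subgroup G) ≤ N := by
    intro s hsE
    by_contra hsN
    have h := hNP P
    haveI := nontrivial_cosets (stronglyEmbedded h)
    obtain ⟨y, hy⟩ := exists_ne (base P)
    obtain ⟨g, rfl⟩ := QuotientGroup.mk_surjective y
    let σ : N ≃* N := MulAut.conjNormal s
    have hσP : ∀ x ∈ (P : Subgroup N), σ x = x := fun x hx => Subtype.ext (by
      rw [MulAut.conjNormal_apply]
      exact mul_inv_eq_iff_eq_mul.2 (commute_of_sq hsq hsE ((hENle x).1 hx)).eq)
    have hσN : ∀ m ∈ normalizer ((P : Subgroup N) : Set N),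
        σ m ∈ normalizer ((P : Subgroup N) : Set N) := by
      intro m hm
      rw [mem_normalizer_iff] at hm ⊢
      intro x
      constructor
      · intro hx
        have h1 := (hm x).1 hx
        have h2 := hσP _ h1
        rw [map_mul, map_mul, map_inv, hσP x hx] at h2
        rw [h2]; exact h1
      · intro hx
        have h1 := hσP _ hx
        rw [← σ.apply_symm_apply x] at hx
        rw [← map_inv, ← map_mul, ← map_mul] at hx
        have h3 : m * σ.symm x * m⁻¹ ∈ (P : Subgroup N) := by
          have h4 := hσP _ hx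
          have := σ.injective h4
          rw [← this]; exact hx
        have h5 := (hm _).2 h3
        have h6 := hσP _ h5
        rw [σ.apply_symm_apply] at h6
        rw [h6]; exact h5
    have hy' : base P ≠ ((σ g : N) : N ⧸ normalizer ((P : Subgroup N) : Set N)) := by
      intro e
      apply hy
      rw [QuotientGroup.eq] at e ⊢
      rw [mul_one]
      have h1 : σ g ∈ normalizer ((P : Subgroup N) : Set N) := by simpa using e
      have hsq' : σ (σ g) = g := Subtype.ext (by
        rw [MulAut.conjNormal_apply, MulAut.conjNormal_apply,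
          inv_eq_of_mul_eq_one_right (hsq s hsE),
          show s * (s * (g : G) * s) * s = (s * s) * g * (s * s) by group, hsq s hsE, one_mul,
          mul_one])
      exact inv_mem (hsq' ▸ hσN _ h1)
    obtain ⟨e, he, hee⟩ := exists_T_smul h hy.symm hy'
    have heE : ((e : N) : G) ∈ (E : Subgroup G) := (hENle e).1 he
    set s' : G := ((e : N) : G)⁻¹ * s with hs'
    have hs'1 : s' ≠ 1 := fun e1 => hsN (by rw [← inv_mul_eq_one.1 e1]; exact (e : N).2)
    have hs'E : s' ∈ (E : Subgroup G) := mul_mem (inv_mem heE) hsE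
    have hs'o : orderOf s' = 2 := orderOf_eq_two_iff_sq.2 ⟨hs'1, hsq _ hs'E⟩
    let τ : N ≃* N := MulAut.conjNormal s'
    have hτg : g⁻¹ * τ g ∈ normalizer ((P : Subgroup N) : Set N) := by
      change e • _ = _ at hee
      rw [MulAction.Quotient.smul_mk, smul_eq_mul, QuotientGroup.eq] at hee
      have h1 : g⁻¹ * τ g = ((e * g)⁻¹ * σ g) * e := Subtype.ext (by
        simp only [τ, σ, hs', Subgroup.coe_mul, Subgroup.coe_inv, MulAut.conjNormal_apply]
        have hc : ((e : N) : G) * s = s * ((e : N) : G) := (commute_of_sq hsq heE hsE).eq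
        calc (g : G)⁻¹ * (((e : N) : G)⁻¹ * s * g * (((e : N) : G)⁻¹ * s)⁻¹)
            = (g : G)⁻¹ * ((e : N) : G)⁻¹ * s * g * (s⁻¹ * ((e : N) : G)) := by group
          _ = _ := by group)
      rw [h1]
      exact mul_mem hee (le_normalizer he)
    obtain ⟨d, hd, hd1⟩ := exists_ne_one h hy.symm
    have hdN := mem_normalizer_of_mem_pairStab hd
    have hτP : ∀ x ∈ (P : Subgroup N), τ x = x := fun x hx => Subtype.ext (by
      rw [MulAut.conjNormal_apply]
      exact mul_inv_eq_iff_eq_mul.2 (commute_of_sq hsq hs'E ((hENle x).1 hx)).eq)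
    have hτN : τ d ∈ normalizer ((P : Subgroup N) : Set N) := by
      have h1 : τ d = e⁻¹ * σ d * e := Subtype.ext (by
        simp only [τ, σ, hs', Subgroup.coe_mul, Subgroup.coe_inv, MulAut.conjNormal_apply]
        group)
      rw [h1]
      exact mul_mem (mul_mem (inv_mem (le_normalizer he)) (hσN d hdN)) (le_normalizer he)
    have hτd : τ d ∈ pairStab N (base P) (g : N ⧸ normalizer ((P : Subgroup N) : Set N)) := by
      refine mem_pairStab.2 ⟨smul_base_iff.2 hτN, (smul_mk_eq_iff _ _ _).2 ?_⟩
      set n := g⁻¹ * τ g with hn'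
      have h1 : g⁻¹ * τ d * g = n * τ (g⁻¹ * d * g) * n⁻¹ := by
        rw [hn', map_mul, map_mul, map_inv]; group
      rw [h1]
      refine mul_mem (mul_mem hτg ?_) (inv_mem hτg)
      set m := g⁻¹ * d * g
      have hm : m ∈ normalizer ((P : Subgroup N) : Set N) :=
        (smul_mk_eq_iff _ _ _).1 (mem_pairStab.1 hd).2
      have h2 : τ m = e⁻¹ * σ m * e := Subtype.ext (by
        simp only [τ, σ, hs', Subgroup.coe_mul, Subgroup.coe_inv, MulAut.conjNormal_apply]
        group)
      rw [h2]
      exact mul_mem (mul_mem (inv_mem (le_normalizer he)) (hσN m hm)) (le_normalizer he)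
    obtain ⟨t, htP, hto⟩ := exists_invol h
    have hdtd : τ (d * t * d⁻¹) = d * t * d⁻¹ :=
      hτP _ ((mem_normalizer_iff.1 hdN t).1 htP)
    rw [map_mul, map_mul, map_inv, hτP t htP] at hdtd
    have hfix : d⁻¹ * τ d = 1 := eq_one_of_commute h hy.symm (mul_mem (inv_mem hd) hτd) hto (by
      show d⁻¹ * τ d * t = t * (d⁻¹ * τ d)
      calc d⁻¹ * τ d * t = d⁻¹ * (τ d * t * (τ d)⁻¹) * τ d := by group
        _ = t * (d⁻¹ * τ d) := by rw [hdtd]; group)
    have hsd : Commute s' (d : G) := by
      have h1 := congrArg (fun z : N => (z : G)) (inv_mul_eq_one.1 hfix).symm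
      simp only [τ, MulAut.conjNormal_apply] at h1
      exact mul_inv_eq_iff_eq_mul.1 h1
    obtain ⟨a', ha', hax⟩ := (uf h).exists_inv (base P)
    obtain ⟨b', hb', hby⟩ := (uf h).exists_inv (g : N ⧸ normalizer ((P : Subgroup N) : Set N))
    obtain ⟨i, hi, -⟩ := exists_interchange (uf h) ha' hb' hax hby hy.symm
    have hinv := interchange_inverts h hy.symm hi hd
    refine hd1 (Subtype.ext (hD.eq_one (x := (d : G)) (t := (i : G))
      (by rw [Subgroup.orderOf_coe]; exact hi.1) (by simpa using congrArg Subtype.val hinv) ?_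
      hs'o hsd))
    rw [Subgroup.orderOf_coe]
    exact (odd_pairStab (uf h) hy.symm).of_dvd_nat (Subgroup.orderOf_dvd_natCard _ hd)
  exact ⟨N, hNn, hNs, hEN', hcent, hNP⟩

/-- **The structure theorem.** -/
theorem hasStructure (G : Type*) [Group G] [Finite G] (hD : DualFree G) (h2 : TwoElementary G)
    (hO : Cfsg.oddCore G = ⊥) : HasStructure G :=
  structure_aux (Nat.card G + 1) G (Nat.lt_succ_self _) hD h2 hO

end CfsgLib.DualFree
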