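import Cfsg.Agent.DualFree.Local
import Cfsg.Agent.Classification.Order5616.Existence
import Cfsg.Agent.S3360

/-!
# The simple case: transfer, and the action on the involutions at a point

A homomorphism of a point stabilizer to an abelian group which is trivial on `core a b` is trivial on
elements whose order involves no inverted prime.  With Huppert's theorem: elements of odd order
centralising an involution at `a` centralise all of them.
-/

set_option autoImplicit false
set_option linter.style.haveILetI false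
set_option linter.unusedSectionVars false

namespace CfsgLib.DualFree

open CfsgLib.Small CfsgLib.SEmbed Subgroup

variable {G : Type*} [Group G] [Finite G] {Ω : Type*} [MulAction G Ω] (h : Setting G Ω)
include h

theorem map_pow_card_points {A : Type*} [CommGroup A] {a b : Ω} (hab : a ≠ b)
    (φ : MulAction.stabilizer G a →* A)
    (hK : ∀ k : MulAction.stabilizer G a, (k : G) ∈ core G a b → φ k = 1)
    (y : MulAction.stabilizer G a) : φ y ^ Nat.card Ω = 1 := by
  classical
  haveI := finite_points h.uf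
  haveI : Nonempty Ω := ⟨a⟩
  haveI : MulAction.IsPretransitive G Ω := ⟨h.uf.transitive⟩
  obtain ⟨u, hu⟩ := exists_swap h hab
  have hub : u • b = a := smul_back hu.1 hu.2
  have hmemD : ∀ {d : G}, d ∈ pairStab G a b → d ∈ (MulAction.stabilizer G a) := fun hd => (mem_pairStab.1 hd).1
  have hfus : ∀ (x z : (MulAction.stabilizer G a)) (g : G), g⁻¹ * (x : G) * g = z → φ z = φ x := by
    intro x z g hg
    by_cases hga : g • a = a
    · have hz : z = (⟨g, hga⟩ : (MulAction.stabilizer G a))⁻¹ * x * ⟨g, hga⟩ := Subtype.ext hg.symm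
      rw [hz, map_mul, map_mul, map_inv, mul_right_comm, inv_mul_cancel, one_mul]
    obtain ⟨f, hfa, hfb⟩ := exists_stab_smul h hab (Ne.symm hga)
    have hxc : (x : G) • g • a = g • a := by
      rw [show (x : G) = g * z * g⁻¹ by rw [← hg]; group, mul_smul, inv_smul_smul, mul_smul]
      rw [show (z : G) • a = a from z.2]
    have hfx : f⁻¹ * x * f ∈ pairStab G a b := mem_pairStab.2
      ⟨by rw [mul_smul, mul_smul, hfa, show (x : G) • a = a from x.2, inv_smul_eq_iff, hfa],
        by rw [mul_smul, mul_smul, hfb, hxc, ← hfb, inv_smul_smul]⟩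
    obtain ⟨k, hk, d, hd, hdu, hkd⟩ := exists_core_mul h hab hu hfx
    have hg'' : (u * (f⁻¹ * g)) • a = a := by
      rw [mul_smul, mul_smul, ← hfb, inv_smul_smul, hub]
    let kM : (MulAction.stabilizer G a) := ⟨k, hmemD (core_le h a b hk)⟩
    let dM : (MulAction.stabilizer G a) := ⟨d, hmemD hd⟩
    let fM : (MulAction.stabilizer G a) := ⟨f, hfa⟩
    let gM : (MulAction.stabilizer G a) := ⟨u * (f⁻¹ * g), hg''⟩
    have h1 : φ x = φ (kM * dM) := by
      have e : x = fM * (kM * dM) * fM⁻¹ := Subtype.ext (by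
        show (x : G) = f * (k * d) * f⁻¹
        rw [← hkd]; group)
      rw [e, map_mul φ (fM * (kM * dM)), map_mul φ fM, map_inv, mul_right_comm, mul_inv_cancel,
        one_mul]
    have h2 : φ z = φ (kM⁻¹ * dM) := by
      have e : z = gM⁻¹ * (kM⁻¹ * dM) * gM := Subtype.ext (by
        show (z : G) = (u * (f⁻¹ * g))⁻¹ * (k⁻¹ * d) * (u * (f⁻¹ * g))
        rw [← swap_inverts_core h hab hu hk, ← hg, show u * k * u⁻¹ * d = u * k * (u⁻¹ * d) by group,
          show u⁻¹ * d = d * u⁻¹ from (Commute.inv_right hdu).eq.symm,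
          show u * k * (d * u⁻¹) = u * (k * d) * u⁻¹ by group, ← hkd]
        group)
      rw [e, map_mul φ (gM⁻¹ * (kM⁻¹ * dM)), map_mul φ gM⁻¹, map_inv, mul_right_comm, inv_mul_cancel,
        one_mul]
    rw [h1, h2, map_mul, map_mul, map_inv, hK kM hk, inv_one]
  have htr := Classification.Order5616.transfer_eq_pow_of_fusion φ hfus y
  rw [MulAction.index_stabilizer_of_transitive] at htr
  haveI := h.simple
  rcases IsSimpleGroup.eq_bot_or_eq_top_of_normal (MonoidHom.transfer φ).ker inferInstance with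
    hk | hk
  · exfalso
    haveI := h.nontriv
    obtain ⟨i, hi, -⟩ := h.uf.exists_inv a
    have : i ∈ Subgroup.center G := Subgroup.mem_center_iff.2 fun g =>
      (MonoidHom.ker_eq_bot_iff _).1 hk (by rw [map_mul, map_mul, mul_comm])
    rw [center_eq_bot h, Subgroup.mem_bot] at this
    exact ne_one_of_orderOf_two hi this
  · rw [← htr, ← MonoidHom.mem_ker, hk]
    exact mem_top _

variable (hind : ∀ H : Subgroup G, H ≠ ⊤ → HasStructure (H ⧸ Cfsg.oddCore H))
include hind

theorem map_eq_one {A : Type*} [CommGroup A] {a b : Ω} (hab : a ≠ b)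
    (φ : MulAction.stabilizer G a →* A)
    (hK : ∀ k : MulAction.stabilizer G a, (k : G) ∈ core G a b → φ k = 1)
    (y : MulAction.stabilizer G a)
    (hy : ∀ r : ℕ, r.Prime → r ∣ orderOf y → r ≠ 2 ∧ ¬ Inverted G r) : φ y = 1 := by
  have h1 := orderOf_dvd_of_pow_eq_one (map_pow_card_points h hab φ hK y)
  have h2 : (orderOf y).Coprime (Nat.card Ω) := Nat.coprime_of_dvd fun r hr e1 e2 => by
    haveI := Fact.mk hr
    exact not_dvd_card_points h hind (hy r hr e1).1 (hy r hr e1).2
      (e1.trans (orderOf_dvd_natCard y)) e2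
  exact orderOf_eq_one_iff.1 (Nat.eq_one_of_dvd_coprimes h2 (orderOf_map_dvd φ y) h1)

/-- An element of odd order centralising an involution at `a` centralises `eAt G a`. -/
theorem commute_eAt {a : Ω} {t w : G} (ht : t ∈ invMap (G := G) a a) (hw : Commute w t)
    (hwo : Odd (orderOf w)) {s : G} (hs : s ∈ eAt G a) : Commute w s := by
  classical
  haveI : Fact (Nat.Prime 2) := ⟨Nat.prime_two⟩
  haveI := h.nontriv
  obtain ⟨b, hb⟩ := exists_ne a
  have hab := hb.symm
  set M := MulAction.stabilizer G a with hM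
  set E := eAt G a with hE
  letI : CommGroup E := { (inferInstance : Group E) with
    mul_comm := fun p q => Subtype.ext (eAt_comm h p.2 q.2).eq }
  letI : Module (ZMod 2) (Additive E) := AddCommGroup.zmodModule (n := 2) fun v => by
    apply Additive.toMul.injective
    refine Subtype.ext ?_
    rw [toMul_nsmul, toMul_zero, Subgroup.coe_pow, pow_two]
    exact eAt_sq h (Additive.toMul v).2
  let f : M → Additive E → Additive E := fun g v =>
    Additive.ofMul ⟨(g : G) * ((Additive.toMul v : E) : G) * (g : G)⁻¹,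
      conj_mem_eAt h g.2 (Additive.toMul v).2⟩
  have hcoe : ∀ (g : M) (v : Additive E), ((Additive.toMul (f g v) : E) : G) =
      (g : G) * ((Additive.toMul v : E) : G) * (g : G)⁻¹ := fun g v => rfl
  have hext : ∀ {v v' : Additive E},
      ((Additive.toMul v : E) : G) = ((Additive.toMul v' : E) : G) → v = v' :=
    fun {v v'} e => Additive.toMul.injective (Subtype.ext e)
  have hfadd : ∀ g v v', f g (v + v') = f g v + f g v' := fun g v v' => hext (by
    rw [toMul_add, Subgroup.coe_mul, hcoe, hcoe, hcoe, toMul_add, Subgroup.coe_mul]; group)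
  have hfinj : ∀ g, Function.Injective (f g) := fun g v v' e => hext (by
    have := congrArg (fun z => ((Additive.toMul z : E) : G)) e
    simp only [hcoe] at this
    exact mul_left_cancel (mul_right_cancel this))
  let L : M → (Additive E ≃ₗ[ZMod 2] Additive E) := fun g =>
    LinearEquiv.ofBijective ((AddMonoidHom.mk' (f g) (hfadd g)).toZModLinearMap 2)
      ⟨hfinj g, Finite.injective_iff_surjective.1 (hfinj g)⟩
  let ρ : M →* (Additive E ≃ₗ[ZMod 2] Additive E) := MonoidHom.mk' L fun g k =>
    LinearEquiv.ext fun v => hext (by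
      show ((g * k : M) : G) * _ * ((g * k : M) : G)⁻¹ =
        (g : G) * ((k : G) * ((Additive.toMul v : E) : G) * (k : G)⁻¹) * (g : G)⁻¹
      rw [Subgroup.coe_mul]; group)
  have hρ : ∀ g v, ρ g v = f g v := fun g v => rfl
  haveI : Nontrivial (Additive E) := by
    refine Finite.one_lt_card_iff_nontrivial.1 ?_
    show 1 < Nat.card E
    rw [card_eAt h]
    have := h.three_le a
    omega
  haveI : Group.IsSolvable M := isSolvable_stabilizer h a
  have hne : ∀ {v : Additive E}, v ≠ 0 →
      ((Additive.toMul v : E) : G) ∈ invMap (G := G) a a := by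
    intro v hv
    rcases (mem_eAt_iff h).1 (Additive.toMul v).2 with e | e
    · exact absurd (hext (by rw [e]; rfl)) hv
    · exact e
  haveI : Finite ρ.range := Finite.of_surjective ρ.rangeRestrict ρ.rangeRestrict_surjective
  rcases Cfsg.Agent.S3360.result 2 (Group.isSolvable_of_surjective ρ.rangeRestrict_surjective)
      ρ.range.subtype ρ.range.subtype_injective (fun v v' hv hv' => by
        obtain ⟨d, hd, e⟩ := exists_conj_fix h.uf hab (hne hv) (hne hv')
        exact ⟨⟨ρ ⟨d, (mem_pairStab.1 hd).1⟩, _, rfl⟩, hext e⟩) with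
    ⟨F, fF, fFin, e, he⟩ | hcard
  swap
  · exfalso
    obtain ⟨k, hk⟩ := odd_card_invMap h a
    have h1 : Nat.card (Additive E) = 2 * (k + 1) := by
      show Nat.card E = _
      rw [card_eAt h, hk]; ring
    simp only [Set.mem_insert_iff, Set.mem_singleton_iff] at hcard
    omega
  have he' : ∀ g : M, ∃ p : F × (F ≃+* F), ∀ v, e (ρ g v) = p.1 * p.2 (e v) := fun g => by
    obtain ⟨c, σ, hc⟩ := he ⟨ρ g, g, rfl⟩
    exact ⟨(c, σ), hc⟩
  choose p hp using he'
  have hp' : ∀ g x, e (ρ g (e.symm x)) = (p g).1 * (p g).2 x := fun g x => by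
    rw [hp g, e.apply_symm_apply]
  have hp0 : ∀ g, (p g).1 ≠ 0 := fun g h0 => by
    have := hp' g 1
    rw [h0, zero_mul, e.map_eq_zero_iff, LinearEquiv.map_eq_zero_iff] at this
    exact one_ne_zero (e.symm.map_eq_zero_iff.1 this)
  have hcomm : ∀ σ τ : F ≃+* F, σ * τ = τ * σ := by
    intro σ τ
    obtain ⟨γ, hγ⟩ := IsCyclic.exists_generator (α := Fˣ)
    obtain ⟨i, hi⟩ := Subgroup.mem_zpowers_iff.1 (hγ (Units.map σ.toRingHom.toMonoidHom γ))
    obtain ⟨j, hj⟩ := Subgroup.mem_zpowers_iff.1 (hγ (Units.map τ.toRingHom.toMonoidHom γ))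
    refine RingEquiv.ext fun x => ?_
    by_cases hx : x = 0
    · subst hx; simp
    obtain ⟨l, hl⟩ := Subgroup.mem_zpowers_iff.1 (hγ (Units.mk0 x hx))
    have hu : ∀ v : F ≃+* F, v x =
        ((Units.map v.toRingHom.toMonoidHom γ ^ l : Fˣ) : F) := fun v => by
      rw [← map_zpow, hl]; rfl
    have hσ : ∀ k : ℤ, σ ((γ ^ k : Fˣ) : F) = ((γ ^ (i * k) : Fˣ) : F) := fun k => by
      rw [zpow_mul, hi, ← map_zpow]; rfl
    have hτ : ∀ k : ℤ, τ ((γ ^ k : Fˣ) : F) = ((γ ^ (j * k) : Fˣ) : F) := fun k => by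
      rw [zpow_mul, hj, ← map_zpow]; rfl
    have hxγ : x = ((γ ^ l : Fˣ) : F) := by rw [hl]; rfl
    rw [RingAut.mul_apply, RingAut.mul_apply, hxγ, hτ, hσ, hσ, hτ, ← mul_assoc, ← mul_assoc,
      mul_comm i j]
  letI : CommGroup (F ≃+* F) :=
    { (inferInstance : Group (RingAut F)) with mul_comm := hcomm }
  let φ : M →* (F ≃+* F) := MonoidHom.mk' (fun g => (p g).2) fun g k => by
    have key : ∀ x, (p (g * k)).1 * (p (g * k)).2 x =
        (p g).1 * (p g).2 (p k).1 * (p g).2 ((p k).2 x) := fun x => by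
      rw [← hp' (g * k), map_mul]
      show e (ρ g (ρ k (e.symm x))) = _
      rw [hp g, hp' k, map_mul, mul_assoc]
    refine RingEquiv.ext fun x => ?_
    have h1 := key 1
    rw [map_one, map_one, map_one, mul_one, mul_one] at h1
    have h2 := key x
    rw [h1, ← h1] at h2
    exact mul_left_cancel₀ (hp0 (g * k)) h2
  set m := Nat.card (invMap (G := G) a a) with hm
  have hwM : w ∈ M := commute_fix h.uf ht.1 hw ht.2
  have hw1 := map_eq_one h hind hab ((powMonoidHom m).comp φ) (fun k hk => by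
    have : k ^ m = 1 := by
      refine Subtype.ext ?_
      rw [hm, ← card_core h hab, Subgroup.coe_pow]
      exact congrArg Subtype.val (pow_card_eq_one' (x := (⟨k, hk⟩ : core G a b)))
    rw [MonoidHom.comp_apply, powMonoidHom_apply, ← map_pow, this, map_one]) ⟨w, hwM⟩
    fun r hr hd => by
      rw [Subgroup.orderOf_mk] at hd
      have hr2 : r ≠ 2 := fun e' => hwo.not_two_dvd_nat (e' ▸ hd)
      exact ⟨hr2, fun hi => h.dual r hr hr2 hi (centralised_of_dvd ht.1 hw.symm hd)⟩
  have hσ : φ ⟨w, hwM⟩ = 1 := by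
    refine orderOf_eq_one_iff.1 (Nat.eq_one_of_dvd_coprimes ?_
      (orderOf_dvd_of_pow_eq_one hw1) ((orderOf_map_dvd φ _).trans (by rw [Subgroup.orderOf_mk])))
    exact (coprime_centralizer h hab ht.1).coprime_dvd_right
      (Subgroup.orderOf_dvd_natCard _ (mem_centralizer_singleton_iff.2 hw.eq))
  have hwv : ∀ v, e (ρ ⟨w, hwM⟩ v) = (p ⟨w, hwM⟩).1 * e v := fun v => by
    rw [hp, show (p ⟨w, hwM⟩).2 = 1 from hσ, RingAut.one_apply]
  let t' : Additive E := Additive.ofMul ⟨t, (mem_eAt_iff h).2 (Or.inr ht)⟩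
  have ht0 : t' ≠ 0 := fun e0 => ne_one_of_orderOf_two ht.1
    (congrArg (fun z => ((Additive.toMul z : E) : G)) e0)
  have hfix : ρ ⟨w, hwM⟩ t' = t' := hext (mul_inv_eq_iff_eq_mul.2 hw.eq)
  have hc1 : (p ⟨w, hwM⟩).1 = 1 := by
    have := hwv t'
    rw [hfix] at this
    exact mul_right_cancel₀ (e.map_ne_zero_iff.2 ht0) (this.symm.trans (one_mul _).symm)
  have := hwv (Additive.ofMul ⟨s, hs⟩)
  rw [hc1, one_mul] at this
  exact mul_inv_eq_iff_eq_mul.1
    (congrArg (fun z => ((Additive.toMul z : E) : G)) (e.injective this))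

end CfsgLib.DualFree
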